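import Mathlib.Algebra.BigOperators.Group.Finset.Basic
import Mathlib.Algebra.Group.Subgroup.Finite
import Mathlib.Data.Int.GCD

/-!
# Averaging for a coprime group of operators on an abelian group
-/

set_option autoImplicit false
set_option linter.all false

namespace CfsgLib.Char.OddSection

variable {D : Type*} [CommGroup D] {S : Type*} [Group S] [Fintype S] (act : S → D →* D)

theorem exists_zpow_card {n : ℕ} (hn : ∀ d : D, d ^ n = 1)
    (hcop : n.Coprime (Fintype.card S)) : ∃ x : ℤ, ∀ d : D, (d ^ Fintype.card S) ^ x = d := by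
  refine ⟨Nat.gcdB n (Fintype.card S), fun d => ?_⟩
  have h := Nat.gcd_eq_gcd_ab n (Fintype.card S)
  rw [Nat.coprime_iff_gcd_eq_one.mp hcop] at h
  calc (d ^ Fintype.card S) ^ Nat.gcdB n (Fintype.card S)
      = d ^ ((n : ℤ) * Nat.gcdA n (Fintype.card S) +
          (Fintype.card S : ℤ) * Nat.gcdB n (Fintype.card S)) := by
        rw [zpow_add, zpow_mul, zpow_natCast, hn, one_zpow, one_mul, zpow_mul, zpow_natCast]
    _ = d := by rw [← h, Nat.cast_one, zpow_one]

/-- A cocycle modulo an invariant subgroup is a coboundary. -/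
theorem exists_cocycle_fix (A B : Subgroup D) {n : ℕ} (hn : ∀ d : D, d ^ n = 1)
    (hcop : n.Coprime (Fintype.card S)) (f : S → D) (hfA : ∀ s, f s ∈ A)
    (hf : ∀ s t, (f (s * t))⁻¹ * (act s (f t) * f s) ∈ B) :
    ∃ ν ∈ A, ∀ s, ν⁻¹ * act s ν * f s ∈ B := by
  classical
  obtain ⟨x, hx⟩ := exists_zpow_card (S := S) hn hcop
  refine ⟨(∏ t, f t) ^ x, A.zpow_mem (A.prod_mem fun t _ => hfA t) x, fun s => ?_⟩
  have h : ∏ t, (f (s * t))⁻¹ * (act s (f t) * f s) ∈ B := B.prod_mem fun t _ => hf s t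
  rw [Finset.prod_mul_distrib, Finset.prod_mul_distrib, Finset.prod_inv_distrib, ← map_prod,
    Finset.prod_const, Finset.card_univ,
    Fintype.prod_equiv (Equiv.mulLeft s) (fun t => f (s * t)) f (fun t => rfl), ← mul_assoc] at h
  have h2 := B.zpow_mem h x
  rw [mul_zpow, mul_zpow, hx, inv_zpow, ← map_zpow] at h2
  exact h2

/-- Without fixed points an element fixed modulo an invariant subgroup lies in that subgroup. -/
theorem mem_of_fix_mod (hact : ∀ s t d, act (s * t) d = act s (act t d)) (B : Subgroup D) {n : ℕ}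
    (hn : ∀ d : D, d ^ n = 1) (hcop : n.Coprime (Fintype.card S))
    (hfix : ∀ d : D, (∀ s, act s d = d) → d = 1) {d : D} (hd : ∀ s, d⁻¹ * act s d ∈ B) : d ∈ B := by
  classical
  obtain ⟨x, hx⟩ := exists_zpow_card (S := S) hn hcop
  have h1 : ∏ t, act t d = 1 := by
    refine hfix _ fun s => ?_
    rw [map_prod]
    simp only [← hact]
    exact Fintype.prod_equiv (Equiv.mulLeft s) (fun t => act (s * t) d) (fun t => act t d) fun t => rfl
  have h : ∏ t, d⁻¹ * act t d ∈ B := B.prod_mem fun t _ => hd t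
  rw [Finset.prod_mul_distrib, h1, mul_one, Finset.prod_const, Finset.card_univ] at h
  have h2 := B.zpow_mem h x
  rw [hx] at h2
  exact B.inv_mem_iff.mp h2

end CfsgLib.Char.OddSection
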