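import Mathlib.Analysis.Complex.Polynomial.Basic
import Mathlib.LinearAlgebra.Eigenspace.Triangularizable

/-!
# A common eigenvector of commuting endomorphisms
-/

set_option autoImplicit false
set_option linter.all false

namespace CfsgLib.Char.OddSection

open Module

variable {V : Type*} [AddCommGroup V] [Module ℂ V] [FiniteDimensional ℂ V]

theorem exists_common_eigenvector (𝒯 : Set (Module.End ℂ V))
    (hcomm : ∀ S ∈ 𝒯, ∀ T ∈ 𝒯, ∀ x, S (T x) = T (S x)) (W : Submodule ℂ V) (hW : W ≠ ⊥)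
    (hinv : ∀ T ∈ 𝒯, ∀ x ∈ W, T x ∈ W) :
    ∃ x ∈ W, x ≠ 0 ∧ ∀ T ∈ 𝒯, ∃ c : ℂ, T x = c • x := by
  suffices H : ∀ (n : ℕ) (W : Submodule ℂ V), finrank ℂ W = n → W ≠ ⊥ →
      (∀ T ∈ 𝒯, ∀ x ∈ W, T x ∈ W) → ∃ x ∈ W, x ≠ 0 ∧ ∀ T ∈ 𝒯, ∃ c : ℂ, T x = c • x from
    H _ W rfl hW hinv
  clear hW hinv W
  intro n
  induction n using Nat.strong_induction_on with
  | _ n ih =>
    intro W hn hW hinv
    by_cases hscal : ∀ T ∈ 𝒯, ∃ c : ℂ, ∀ x ∈ W, T x = c • x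
    · obtain ⟨x, hx, hx0⟩ := Submodule.exists_mem_ne_zero_of_ne_bot hW
      exact ⟨x, hx, hx0, fun T hT => (hscal T hT).imp fun c hc => hc x hx⟩
    push Not at hscal
    obtain ⟨T, hT, hTn⟩ := hscal
    have : Nontrivial W := Submodule.nontrivial_iff_ne_bot.mpr hW
    obtain ⟨c, hc⟩ := Module.End.exists_eigenvalue (T.restrict (hinv T hT))
    obtain ⟨x, hx⟩ := hc.exists_hasEigenvector
    have hxT : T (x : V) = c • (x : V) := congrArg Subtype.val hx.apply_eq_smul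
    set W' : Submodule ℂ V := W ⊓ LinearMap.ker (T - c • LinearMap.id) with hW'
    have hmem : ∀ y, y ∈ W' ↔ y ∈ W ∧ T y = c • y := fun y => by
      simp [hW', sub_eq_zero]
    have hx' : (x : V) ∈ W' := (hmem _).mpr ⟨x.2, hxT⟩
    have hne : W' ≠ ⊥ := fun h => hx.2 (Subtype.ext ((Submodule.mem_bot ℂ).mp (h ▸ hx')))
    have hlt : W' < W := by
      refine lt_of_le_of_ne inf_le_left fun h => ?_
      obtain ⟨y, hy, hy'⟩ := hTn c
      exact hy' ((hmem y).mp (h ▸ hy)).2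
    obtain ⟨y, hy, hy0, hy'⟩ := ih _ (hn ▸ Submodule.finrank_lt_finrank_of_lt hlt) W' rfl hne
      fun S hS y hy => (hmem _).mpr ⟨hinv S hS y ((hmem y).mp hy).1, by
        rw [hcomm T hT S hS y, ((hmem y).mp hy).2, map_smul]⟩
    exact ⟨y, ((hmem y).mp hy).1, hy0, hy'⟩

end CfsgLib.Char.OddSection
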