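import Cfsg.Agent.Lib.Char.OddSection.Proj
import Cfsg.Agent.Lib.Char.OddSection.Avg
import Cfsg.Agent.Lib.Char.Equiv
import Mathlib.RepresentationTheory.Basic

/-!
# Characters of an abelian section over an invariant character: twists, and the fixed one
-/

set_option autoImplicit false
set_option linter.all false

namespace CfsgLib.Char.OddSection

open Module

variable {K : Type*} [Group K] [Fintype K] {L : Subgroup K} [hLn : L.Normal]

omit [Fintype K] hLn in
theorem isIrrCharacter_twist {θ : K → ℂ} (hθ : Cfsg.IsIrrCharacter K θ) (f : linHoms L) :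
    Cfsg.IsIrrCharacter K (fun k => (f.1 k : ℂ) * θ k) := by
  obtain ⟨n, ρ, hρ, rfl⟩ := hθ
  let σ : Representation ℂ K (Fin n → ℂ) :=
    { toFun := fun k => (f.1 k : ℂ) • ρ k
      map_one' := by rw [linHoms.map_one, Units.val_one, one_smul, map_one]
      map_mul' := fun a b => by
        rw [linHoms.map_mul, Units.val_mul, map_mul, smul_mul_assoc, mul_smul_comm, smul_smul] }
  have hσ : σ.IsIrreducible := by
    let e : Subrepresentation σ ≃o Subrepresentation ρ :=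
      { toFun := fun S => ⟨S.toSubmodule, fun k v hv => by
          have h := S.toSubmodule.smul_mem ((f.1 k : ℂ))⁻¹ (S.apply_mem_toSubmodule k hv)
          simpa [σ, smul_smul] using h⟩
        invFun := fun S => ⟨S.toSubmodule, fun k v hv =>
          S.toSubmodule.smul_mem _ (S.apply_mem_toSubmodule k hv)⟩
        left_inv := fun S => rfl
        right_inv := fun S => rfl
        map_rel_iff' := Iff.rfl }
    exact e.isSimpleOrder
  exact ⟨n, σ, hσ, funext fun k => by simp [Representation.character, σ]⟩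

variable {φ : L → ℂ} [Fintype L]

theorem exists_twist_eq (hab : ∀ a b : K, a * b * a⁻¹ * b⁻¹ ∈ L) (hφ : Cfsg.IsIrrCharacter L φ)
    (θ θ' : Cfsg.IrrCharacter K) {e e' : ℕ} (h : ∀ l : L, (θ : K → ℂ) l = (e : ℂ) * φ l)
    (h' : ∀ l : L, (θ' : K → ℂ) l = (e' : ℂ) * φ l) :
    ∃ f : linHoms L, ∀ k, (θ' : K → ℂ) k = (f.1 k : ℂ) * (θ : K → ℂ) k := by
  classical
  have := Fintype.ofFinite (linHoms L)
  obtain ⟨n, ρ, hρ, hρc⟩ := θ.2
  obtain ⟨n', ρ', hρ', hρc'⟩ := θ'.2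
  have he : (e : ℂ) ≠ 0 := fun h0 => IsIrr.apply_one_ne_zero θ.2 (by
    rw [show (1 : K) = ((1 : L) : K) from rfl, h, h0, zero_mul])
  have he' : (e' : ℂ) ≠ 0 := fun h0 => IsIrr.apply_one_ne_zero θ'.2 (by
    rw [show (1 : K) = ((1 : L) : K) from rfl, h', h0, zero_mul])
  let R : Representation ℂ L (Fin n → ℂ) := ρ.comp L.subtype
  let R' : Representation ℂ L (Fin n' → ℂ) := ρ'.comp L.subtype
  have hrank : finrank ℂ (R.IntertwiningMap R') ≠ 0 := by
    intro h0
    have h1 := classInner_eq_finrank R R'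
    rw [h0, Nat.cast_zero, show R'.character = (e' : ℂ) • φ from
      funext fun l => (congrFun hρc' _).trans (h' l), show R.character = (e : ℂ) • φ
      from funext fun l => (congrFun hρc _).trans (h l), classInner_smul_left, classInner_smul_right,
      show Cfsg.classInner φ φ = 1 from classInner_irr_self ⟨φ, hφ⟩, mul_one, map_natCast] at h1
    exact mul_ne_zero he' he h1
  obtain ⟨T, hT⟩ : ∃ T : R.IntertwiningMap R', T ≠ 0 := by
    by_contra hno
    push Not at hno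
    have : Subsingleton (R.IntertwiningMap R') :=
      ⟨fun a b => (hno a).trans (hno b).symm⟩
    exact hrank finrank_zero_of_subsingleton
  have hx : ∀ l ∈ L, ρ.linHom ρ' l T.toLinearMap = T.toLinearMap := fun l hl =>
    LinearMap.ext fun v => by
      show ρ' l (T.toLinearMap (ρ l⁻¹ v)) = T.toLinearMap v
      have h1 : T.toLinearMap (ρ l⁻¹ v) = ρ' l⁻¹ (T.toLinearMap v) :=
        T.isIntertwining _ _ (⟨l⁻¹, L.inv_mem hl⟩ : L) v
      rw [h1, Representation.self_inv_apply]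
  obtain ⟨f, hf⟩ : ∃ f : linHoms L, proj (ρ.linHom ρ') f T.toLinearMap ≠ 0 := by
    by_contra hno
    push Not at hno
    refine hT (Representation.IntertwiningMap.ext ?_)
    rw [eq_sum_proj (ρ.linHom ρ') hab hx, Finset.sum_eq_zero fun f _ => hno f]
    rfl
  obtain ⟨m, σ, hσ, hσc⟩ := isIrrCharacter_twist (L := L) θ.2 f
  obtain ⟨E⟩ : Nonempty (ρ'.Equiv σ) := by
    set T₀ := proj (ρ.linHom ρ') f T.toLinearMap with hT₀
    let σ₀ : Representation ℂ K (Fin n → ℂ) :=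
      { toFun := fun k => (f.1 k : ℂ) • ρ k
        map_one' := by rw [linHoms.map_one, Units.val_one, one_smul, map_one]
        map_mul' := fun a b => by
          rw [linHoms.map_mul, Units.val_mul, map_mul, smul_mul_assoc, mul_smul_comm, smul_smul] }
    have hσ₀c : σ₀.character = σ.character := by
      rw [hσc, ← hρc]
      exact funext fun k => by simp [Representation.character, σ₀]
    obtain ⟨E₀⟩ := nonempty_equiv_of_character_eq σ₀ σ hσ₀c
    have : σ₀.IsIrreducible := (isIrreducible_iff_of_equiv E₀).mpr hσ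
    let F : σ₀.IntertwiningMap ρ' := ⟨T₀, fun k => LinearMap.ext fun v => by
      have h1 := LinearMap.congr_fun (apply_proj_apply (ρ.linHom ρ') f k T.toLinearMap) (ρ k v)
      change ρ' k (T₀ (ρ k⁻¹ (ρ k v))) = (f.1 k : ℂ) • T₀ (ρ k v) at h1
      rw [Representation.inv_self_apply] at h1
      show T₀ ((f.1 k : ℂ) • ρ k v) = ρ' k (T₀ v)
      rw [map_smul, h1]⟩
    have hb : Function.Bijective F := by
      refine (Representation.IsIrreducible.bijective_or_eq_zero F).resolve_right fun h0 => hf ?_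
      exact congrArg Representation.IntertwiningMap.toLinearMap h0
    have hc : σ₀.character = ρ'.character := Representation.char_iso (F.ofBijective hb)
    exact nonempty_equiv_of_character_eq ρ' σ (hc.symm.trans hσ₀c)
  refine ⟨f, fun k => ?_⟩
  rw [← hρc', Representation.char_iso E, hσc]

/-- A coprime group of operators without fixed characters on the section fixes exactly one
character over a fixed `φ`. -/
theorem exists_unique_fixed_over {S : Type*} [Group S] [Fintype S] (a : S →* MulAut K)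
    (hab : ∀ x y : K, x * y * x⁻¹ * y⁻¹ ∈ L) (hφ : Cfsg.IsIrrCharacter L φ)
    (hcop : (Nat.card K).Coprime (Nat.card S)) (haL : ∀ s, ∀ l ∈ L, a s l ∈ L)
    (hφs : ∀ s (l : L), φ ⟨a s l, haL s l l.2⟩ = φ l)
    (hfix : ∀ f : linHoms L, (∀ s k, f.1 (a s k) = f.1 k) → f = 1)
    (θ : Cfsg.IrrCharacter K) {e : ℕ} (hθ : ∀ l : L, (θ : K → ℂ) l = (e : ℂ) * φ l) :
    ∃ θ₀ : Cfsg.IrrCharacter K, (∀ l : L, (θ₀ : K → ℂ) l = (e : ℂ) * φ l) ∧
      (∀ s k, (θ₀ : K → ℂ) (a s k) = (θ₀ : K → ℂ) k) ∧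
      ∀ θ' : Cfsg.IrrCharacter K, (∃ e' : ℕ, ∀ l : L, (θ' : K → ℂ) l = (e' : ℂ) * φ l) →
        (∀ s k, (θ' : K → ℂ) (a s k) = (θ' : K → ℂ) k) → θ' = θ₀ := by
  classical
  have hsymm : ∀ s, ∀ l ∈ L, (a s⁻¹) l ∈ L := fun s => haL s⁻¹
  let act : S → linHoms L →* linHoms L := fun s =>
    { toFun := fun f => ⟨fun k => f.1 (a s⁻¹ k), fun x y => by simp only [map_mul, linHoms.map_mul],
        fun l hl => linHoms.map_of_mem f (hsymm s l hl)⟩
      map_one' := rfl
      map_mul' := fun _ _ => rfl }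
  have hact : ∀ s t f, act (s * t) f = act s (act t f) := fun s t f => linHoms.ext' fun k => by
    show f.1 (a (s * t)⁻¹ k) = f.1 (a t⁻¹ (a s⁻¹ k))
    rw [mul_inv_rev, map_mul]; rfl
  have hfix' : ∀ f : linHoms L, (∀ s, act s f = f) → f = 1 := fun f hf => hfix f fun s k => by
    have h := congrArg (fun g : linHoms L => g.1 k) (hf s⁻¹)
    change f.1 (a s⁻¹⁻¹ k) = f.1 k at h
    rwa [inv_inv] at h
  have hcop' : (Nat.card K).Coprime (Fintype.card S) := by rwa [← Nat.card_eq_fintype_card]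
  have stab : ∀ η : K → ℂ, ∃ B : Subgroup (linHoms L),
      ∀ f, f ∈ B ↔ ∀ k, (f.1 k : ℂ) * η k = η k := fun η =>
    ⟨{ carrier := {f | ∀ k, (f.1 k : ℂ) * η k = η k}
       one_mem' := fun k => one_mul _
       mul_mem' := fun {f g} hf hg k => by
         show ((f.1 k * g.1 k : ℂˣ) : ℂ) * η k = η k
         rw [Units.val_mul, mul_assoc, hg k, hf k]
       inv_mem' := fun {f} hf k => by
         show (((f.1 k)⁻¹ : ℂˣ) : ℂ) * η k = η k
         conv_lhs => rw [← hf k, ← mul_assoc, Units.inv_mul, one_mul] }, fun f => Iff.rfl⟩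
  have heq : ∀ (η : K → ℂ) (B : Subgroup (linHoms L)),
      (∀ f, f ∈ B ↔ ∀ k, (f.1 k : ℂ) * η k = η k) → ∀ f g : linHoms L,
        (f⁻¹ * g ∈ B ↔ ∀ k, (g.1 k : ℂ) * η k = (f.1 k : ℂ) * η k) := by
    intro η B hB f g
    rw [hB]
    refine forall_congr' fun k => ?_
    show ((((f.1 k)⁻¹ * g.1 k : ℂˣ)) : ℂ) * η k = η k ↔ _
    rw [Units.val_mul, mul_assoc, Units.inv_mul_eq_iff_eq_mul]
  obtain ⟨B, hB⟩ := stab (θ : K → ℂ)
  -- the cocycle
  have hc : ∀ s, ∃ f : linHoms L, ∀ k, (θ : K → ℂ) (a s⁻¹ k) = (f.1 k : ℂ) * (θ : K → ℂ) k := fun s =>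
    exists_twist_eq hab hφ θ
      ⟨_, IsIrr.comp_surjective (a s⁻¹).toMonoidHom (a s⁻¹).surjective θ.2⟩ hθ
      (e' := e) fun l => (hθ ⟨a s⁻¹ l, haL s⁻¹ l l.2⟩).trans (by rw [hφs])
  choose g hg using hc
  obtain ⟨ν, -, hν⟩ := exists_cocycle_fix act ⊤ B linHoms.pow_card hcop' g
    (fun s => Subgroup.mem_top _) (fun s t => (heq _ B hB _ _).mpr fun k => by
      rw [← hg (s * t) k, mul_inv_rev, map_mul]
      show _ = (θ : K → ℂ) (a t⁻¹ (a s⁻¹ k))
      rw [hg t, hg s]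
      show ((((g t).1 (a s⁻¹ k)) * (g s).1 k : ℂˣ) : ℂ) * _ = _
      rw [Units.val_mul, mul_assoc])
  let θ₀ : Cfsg.IrrCharacter K := ⟨_, isIrrCharacter_twist (L := L) θ.2 ν⟩
  have h₀ : ∀ l : L, (θ₀ : K → ℂ) l = (e : ℂ) * φ l := fun l => by
    show (ν.1 l : ℂ) * (θ : K → ℂ) l = _
    rw [linHoms.map_of_mem ν l.2, Units.val_one, one_mul, hθ]
  have h₀s : ∀ s k, (θ₀ : K → ℂ) (a s k) = (θ₀ : K → ℂ) k := by
    intro s k
    have h := hν s⁻¹
    rw [mul_assoc] at h
    have h2 := (heq _ B hB _ _).mp h k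
    change (((act s⁻¹ ν).1 k * (g s⁻¹).1 k : ℂˣ) : ℂ) * (θ : K → ℂ) k = _ at h2
    rw [Units.val_mul, mul_assoc, ← hg s⁻¹ k] at h2
    change (ν.1 (a s⁻¹⁻¹ k) : ℂ) * (θ : K → ℂ) (a s⁻¹⁻¹ k) = _ at h2
    rwa [inv_inv] at h2
  refine ⟨θ₀, h₀, h₀s, fun θ' ⟨e', he'⟩ hs' => ?_⟩
  obtain ⟨d, hd⟩ := exists_twist_eq hab hφ θ₀ θ' h₀ he'
  obtain ⟨B₀, hB₀⟩ := stab (θ₀ : K → ℂ)
  have hdB : d ∈ B₀ := mem_of_fix_mod act hact B₀ linHoms.pow_card hcop' hfix' fun s =>
    (heq _ B₀ hB₀ _ _).mpr fun k => by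
      show (d.1 (a s⁻¹ k) : ℂ) * (θ₀ : K → ℂ) k = _
      conv_lhs => rw [← h₀s s⁻¹ k, ← hd, hs', hd]
  exact irr_ext fun k => (hd k).trans ((hB₀ d).mp hdB k)

end CfsgLib.Char.OddSection
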