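import Cfsg.Agent.Lib.Char.OddSection.InvariantCase

/-!
# Auxiliary facts for the reduction to the invariant case
-/

set_option autoImplicit false
set_option linter.all false
set_option maxHeartbeats 400000

namespace CfsgLib.Char.OddSection

open CfsgLib.Clifford
open scoped ComplexConjugate

variable {G : Type*} [Group G] [Fintype G]

/-- Constituents of constituents are constituents. -/
theorem below {N T : Subgroup G} [Fintype N] [Fintype T] (hle : N ≤ T) {χ : G → ℂ}
    (hχ : Cfsg.IsCharacter G χ) {ω : T → ℂ} (hω : Cfsg.IsIrrCharacter T ω) {θ : N → ℂ}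
    (hθ : Cfsg.IsCharacter N θ) (h1 : Cfsg.classInner (fun t : T => χ t) ω ≠ 0)
    (h2 : Cfsg.classInner (resTo hle ω) θ ≠ 0) : Cfsg.classInner (fun n : N => χ n) θ ≠ 0 := by
  classical
  have := Fintype.ofFinite (Cfsg.IrrCharacter T)
  rw [classInner_resTo_restrict hle hχ]
  have hnat : ∀ φ : Cfsg.IrrCharacter T, ∃ n : ℕ, Cfsg.classInner (fun t : T => χ t) (φ : T → ℂ) *
      Cfsg.classInner (resTo hle (φ : T → ℂ)) θ = n := fun φ => by
    obtain ⟨a, ha⟩ := IsChar.classInner_eq_natCast (IsChar.restrict T hχ) (IsIrr.isCharacter φ.2)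
    obtain ⟨b, hb⟩ := IsChar.classInner_eq_natCast (isCharacter_resTo hle (IsIrr.isCharacter φ.2)) hθ
    exact ⟨a * b, by rw [ha, hb, Nat.cast_mul]⟩
  choose n hn using hnat
  rw [Finset.sum_congr rfl fun φ _ => hn φ, ← Nat.cast_sum, Nat.cast_ne_zero]
  intro h0
  have h3 := Finset.sum_eq_zero_iff.mp h0 ⟨ω, hω⟩ (Finset.mem_univ _)
  exact mul_ne_zero h1 h2 ((hn ⟨ω, hω⟩).trans (by rw [h3, Nat.cast_zero]))

/-- Induction commutes with automorphisms. -/
theorem indFun_comp_aut (σ : MulAut G) (T : Subgroup G) (hT : ∀ x, σ x ∈ T ↔ x ∈ T) (η : T → ℂ)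
    (g : G) :
    Cfsg.indFun T (fun t => η ⟨σ (t : G), (hT t).mpr t.2⟩) g = Cfsg.indFun T η (σ g) := by
  unfold Cfsg.indFun
  congr 1
  refine Fintype.sum_equiv σ.toEquiv _ _ fun x => ?_
  have he : (σ x)⁻¹ * σ g * σ x = σ (x⁻¹ * g * x) := by simp
  show _ = Cfsg.extendByZero T η ((σ x)⁻¹ * σ g * σ x)
  rw [he]
  by_cases hx : x⁻¹ * g * x ∈ T
  · rw [extendByZero_of_mem T _ hx, extendByZero_of_mem T _ ((hT _).mpr hx)]
  · rw [extendByZero_of_notMem T _ hx, extendByZero_of_notMem T _ fun h => hx ((hT _).mp h)]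

variable {S : Type*} [Group S] [Finite S] (a : S →* MulAut G)

/-- An automorphism group maps an invariant subgroup onto itself. -/
theorem mem_iff_of_invariant {T : Subgroup G} (hT : ∀ s, ∀ t ∈ T, a s t ∈ T) (s : S) (x : G) :
    a s x ∈ T ↔ x ∈ T := by
  refine ⟨fun h => ?_, hT s x⟩
  have h1 := hT s⁻¹ _ h
  rwa [map_inv, MulAut.inv_apply_self] at h1

/-- A character whose translates by the operators are conjugates by fixed elements is fixed. -/
theorem fixed_of_step {N : Subgroup G} (hN : N.Normal) (hcop : (Nat.card G).Coprime (Nat.card S))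
    (hNS : ∀ s, ∀ n ∈ N, a s n ∈ N) {θ : N → ℂ}
    (hstep : ∀ s, ∃ c : G, (∀ t, a t c = c) ∧
      ∀ n : N, θ ⟨a s (n : G), hNS s n n.2⟩ = conjFn hN θ c n) :
    InvOn a N θ := by
  intro s
  obtain ⟨c, hc, hsc⟩ := hstep s
  have hpow : ∀ i : ℕ, ∀ n : N, θ ⟨a (s ^ i) (n : G), hNS _ n n.2⟩ = conjFn hN θ (c ^ i) n := by
    intro i
    induction i with
    | zero =>
      intro n
      exact congrArg θ (Subtype.ext (by simp))
    | succ i ih =>
      intro n
      have h1 := ih ⟨a s (n : G), hNS s n n.2⟩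
      refine (congrArg θ (Subtype.ext ?_)).trans (h1.trans ?_)
      · show a (s ^ (i + 1)) (n : G) = a (s ^ i) (a s (n : G))
        rw [pow_succ, map_mul]; rfl
      · have h2 := hsc ⟨c ^ i * n * (c ^ i)⁻¹, hN.conj_mem n n.2 _⟩
        refine (congrArg θ (Subtype.ext ?_)).trans (h2.trans (congrArg θ (Subtype.ext ?_)))
        · show c ^ i * a s (n : G) * (c ^ i)⁻¹ = a s (c ^ i * (n : G) * (c ^ i)⁻¹)
          simp [map_mul, map_pow, hc s]
        · show c * (c ^ i * (n : G) * (c ^ i)⁻¹) * c⁻¹ = c ^ (i + 1) * (n : G) * (c ^ (i + 1))⁻¹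
          rw [pow_succ']
          group
  have hcN : c ^ Nat.card S ∈ inertia hN θ := funext fun n =>
    (hpow (Nat.card S) n).symm.trans (congrArg θ (Subtype.ext (by
      show a (s ^ Nat.card S) (n : G) = n
      rw [pow_card_eq_one', map_one, MulAut.one_apply])))
  obtain ⟨j, hj⟩ := exists_pow_eq_self_of_coprime
    (hcop.symm.coprime_dvd_right (orderOf_dvd_natCard c))
  have hcI : c ∈ inertia hN θ := hj ▸ pow_mem hcN j
  intro n n' hn
  refine (congrArg θ (Subtype.ext hn : n' = (⟨a s (n : G), hNS s n n.2⟩ : N))).trans ?_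
  exact (hsc n).trans (congrFun hcI n)

theorem exists_conj_of_constituent {N : Subgroup G} [Fintype N] (hN : N.Normal) {χ : G → ℂ}
    (hχ : Cfsg.IsIrrCharacter G χ) {θ η : N → ℂ} (hθ : Cfsg.IsIrrCharacter N θ)
    (hη : Cfsg.IsIrrCharacter N η) (h1 : Cfsg.classInner (fun n : N => χ n) θ ≠ 0)
    (h2 : Cfsg.classInner (fun n : N => χ n) η ≠ 0) : ∃ g, η = conjFn hN θ g := by
  classical
  rw [restrict_eq_smul_orbit_sum hN hχ hθ h1, classInner_smul_left, classInner_sum_left] at h2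
  obtain ⟨ω, hω, hω'⟩ := Finset.exists_ne_zero_of_sum_ne_zero (right_ne_zero_of_mul h2)
  obtain ⟨g, -, rfl⟩ := Finset.mem_image.mp hω
  rw [← classInner_conj_symm, classInner_irr_conjFn hN hη hθ g, ne_eq, map_eq_zero] at hω'
  by_contra hne
  exact hω' (if_neg fun h => hne ⟨g, h⟩)

/-- Translates of constituents of invariant characters are constituents. -/
theorem classInner_translate {N : Subgroup G} [Fintype N] (hNS : ∀ s, ∀ n ∈ N, a s n ∈ N) {χ : G → ℂ}
    (hχ : ∀ s g, χ (a s g) = χ g) (θ : N → ℂ) (s : S) :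
    Cfsg.classInner (fun n : N => χ n) (fun n : N => θ ⟨a s (n : G), hNS s n n.2⟩) =
      Cfsg.classInner (fun n : N => χ n) θ := by
  conv_rhs => rw [← classInner_comp_equiv (restrAut a N hNS s) (fun n : N => χ n) θ]
  congr 1
  exact funext fun n => (hχ s n).symm

/-- Functions, for the action of automorphisms. -/
structure Fn (G : Type*) where
  /-- the function -/
  val : G → ℂ

noncomputable instance : MulAction (MulAut G) (Fn G) where
  smul σ f := ⟨fun x => f.val (σ⁻¹ x)⟩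
  one_smul f := congrArg Fn.mk (funext fun x => by simp)
  mul_smul σ τ f := congrArg Fn.mk (funext fun x => by
    show f.val ((σ * τ)⁻¹ x) = f.val (τ⁻¹ (σ⁻¹ x))
    rw [mul_inv_rev, MulAut.mul_apply])

omit [Fintype G] in
theorem Fn.smul_val (σ : MulAut G) (f : Fn G) (x : G) : (σ • f).val x = f.val (σ⁻¹ x) := rfl

/-- An invariant character has an invariant constituent. -/
theorem exists_fixed_constituent {N : Subgroup G} [Fintype N] (hN : N.Normal)
    (hcop : (Nat.card G).Coprime (Nat.card S)) (hsolv : Group.IsSolvable G)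
    (hNS : ∀ s, ∀ n ∈ N, a s n ∈ N) {χ : G → ℂ} (hχ : Cfsg.IsIrrCharacter G χ)
    (hinv : ∀ s g, χ (a s g) = χ g) :
    ∃ φ : N → ℂ, Cfsg.IsIrrCharacter N φ ∧ InvOn a N φ ∧
      Cfsg.classInner (fun n : N => χ n) φ ≠ 0 := by
  have hres : (fun n : N => χ n) ≠ 0 := fun h => IsIrr.apply_one_ne_zero hχ (congrFun h 1)
  obtain ⟨φ₁, hφ₁⟩ := exists_constituent
    (IsChar.isClassFunction (IsChar.restrict N (IsIrr.isCharacter hχ))) hres
  let x : Fn G := ⟨Cfsg.extendByZero N (φ₁ : N → ℂ)⟩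
  have hx : ∀ s, ∃ g : G, a s • x = MulAut.conj g • x := by
    intro s
    obtain ⟨g, hg⟩ := exists_conj_of_constituent hN hχ φ₁.2
      (IsIrr.comp_surjective (restrAut a N hNS s⁻¹).toMonoidHom
        (restrAut a N hNS s⁻¹).surjective φ₁.2) hφ₁
      (fun h0 => hφ₁ ((classInner_translate a hNS hinv _ s⁻¹).symm.trans h0))
    refine ⟨g⁻¹, congrArg Fn.mk (funext fun y => ?_)⟩
    show Cfsg.extendByZero N (φ₁ : N → ℂ) ((a s)⁻¹ y) =
      Cfsg.extendByZero N (φ₁ : N → ℂ) ((MulAut.conj g⁻¹)⁻¹ y)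
    rw [← map_inv, ← map_inv, inv_inv, MulAut.conj_apply]
    by_cases hy : y ∈ N
    · rw [extendByZero_of_mem N _ (hNS s⁻¹ y hy), extendByZero_of_mem N _ (hN.conj_mem y hy g)]
      exact congrFun hg ⟨y, hy⟩
    · rw [extendByZero_of_notMem N _ (fun h => hy ((mem_iff_of_invariant a hNS _ y).mp h)),
        extendByZero_of_notMem N _ fun h => hy (by
          have := hN.conj_mem _ h g⁻¹
          simpa [mul_assoc] using this)]
  obtain ⟨g, hg⟩ := exists_fixed_in_orbit a hcop hsolv hx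
  refine ⟨conjFn hN (φ₁ : N → ℂ) g⁻¹, isIrrCharacter_conjFn hN φ₁.2 _, fun s n n' hn => ?_, ?_⟩
  · have h := congrFun (congrArg Fn.val (hg s)) (n' : G)
    simp only [Fn.smul_val, x] at h
    rw [← map_inv (MulAut.conj : G →* MulAut G), MulAut.conj_apply, MulAut.conj_apply,
      show (a s)⁻¹ (n' : G) = (n : G) by rw [hn, MulAut.inv_apply_self],
      extendByZero_of_mem N _ (hN.conj_mem _ n.2 _), extendByZero_of_mem N _ (hN.conj_mem _ n'.2 _)] at h
    exact h.symm
  · intro h0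
    apply hφ₁
    have he := classInner_comp_equiv (@MulAut.conjNormal G _ N hN g⁻¹) (fun n : N => χ n)
      (φ₁ : N → ℂ)
    rw [← he, ← h0]
    congr 1
    exact funext fun n => IsIrr.isClassFunction hχ (n : G) g⁻¹

end CfsgLib.Char.OddSection
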