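import Cfsg.Agent.Lib.Char.Basic
import Mathlib.LinearAlgebra.Contraction
import Mathlib.LinearAlgebra.Trace
import Mathlib.LinearAlgebra.PID

/-!
# Traces on spaces of linear maps; involutions commuting with a representation
-/

set_option autoImplicit false
set_option linter.all false

namespace CfsgLib.Char.OddSection

open Module

variable {V W : Type*} [AddCommGroup V] [Module ℂ V] [FiniteDimensional ℂ V] [AddCommGroup W]
  [Module ℂ W] [FiniteDimensional ℂ W]

/-- `T ↦ A ∘ T ∘ B`. -/
def twoSided (A : Module.End ℂ W) (B : Module.End ℂ V) : Module.End ℂ (V →ₗ[ℂ] W) :=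
  (LinearMap.llcomp ℂ V W W A) ∘ₗ (LinearMap.lcomp ℂ W B)

omit [FiniteDimensional ℂ V] [FiniteDimensional ℂ W] in
theorem twoSided_apply (A : Module.End ℂ W) (B : Module.End ℂ V) (T : V →ₗ[ℂ] W) :
    twoSided A B T = A ∘ₗ T ∘ₗ B := rfl

theorem trace_twoSided (A : Module.End ℂ W) (B : Module.End ℂ V) :
    LinearMap.trace ℂ (V →ₗ[ℂ] W) (twoSided A B) = LinearMap.trace ℂ W A * LinearMap.trace ℂ V B := by
  have hconj : (dualTensorHomEquiv ℂ V W).conj (TensorProduct.map B.dualMap A) = twoSided A B := by
    refine LinearMap.ext fun T => ?_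
    obtain ⟨x, rfl⟩ := (dualTensorHomEquiv ℂ V W).surjective T
    rw [LinearEquiv.conj_apply]
    simp only [LinearMap.comp_apply, LinearEquiv.coe_coe, LinearEquiv.symm_apply_apply]
    induction x using TensorProduct.induction_on with
    | zero => simp
    | add a b ha hb => simp only [map_add, ha, hb]
    | tmul f w =>
      refine LinearMap.ext fun v => ?_
      simp [twoSided_apply, dualTensorHomEquiv, dualTensorHomEquivOfBasis]
  rw [← hconj, LinearMap.trace_conj', LinearMap.trace_tensorProduct']
  rw [show B.dualMap = Module.Dual.transpose B from rfl, LinearMap.trace_transpose', mul_comm]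

variable {H : Type*} [Group H] (τ : Representation ℂ H V)

/-- An involution commuting with a representation splits its character. -/
theorem exists_signed_split (J : Module.End ℂ V) (hJ : J * J = 1) (hc : ∀ h, J * τ h = τ h * J) :
    ∃ p q : H → ℂ, Cfsg.IsCharacter H p ∧ Cfsg.IsCharacter H q ∧
      (∀ h, τ.character h = p h + q h) ∧ ∀ h, LinearMap.trace ℂ V (J * τ h) = p h - q h := by
  have half : ∀ (s : ℂ), s * s = 1 → ∃ p : H → ℂ, Cfsg.IsCharacter H p ∧
      ∀ h, p h = LinearMap.trace ℂ V (((1 / 2 : ℂ) • (1 + s • J)) * τ h) := by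
    intro s hs
    set P : Module.End ℂ V := (1 / 2 : ℂ) • (1 + s • J) with hP
    have hPc : ∀ h, P * τ h = τ h * P := fun h => by
      rw [hP, smul_mul_assoc, mul_smul_comm, add_mul, mul_add, one_mul, mul_one, smul_mul_assoc,
        mul_smul_comm, hc]
    have hPP : P * P = P := by
      rw [hP, smul_mul_assoc, mul_smul_comm, add_mul, mul_add, mul_add, one_mul, mul_one, one_mul,
        smul_mul_assoc, mul_smul_comm, hJ, smul_smul s s, hs, one_smul]
      module
    let S : Subrepresentation τ := ⟨LinearMap.range P, fun h v hv => by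
      obtain ⟨w, rfl⟩ := hv
      exact ⟨τ h w, LinearMap.congr_fun (hPc h) w⟩⟩
    refine ⟨S.toRepresentation.character, isCharacter_rep _, fun h => ?_⟩
    have hmem : ∀ x, (P * τ h) x ∈ LinearMap.range P := fun x => ⟨τ h x, rfl⟩
    refine Eq.trans ?_ (LinearMap.trace_restrict_eq_of_forall_mem (LinearMap.range P) (P * τ h) hmem)
    refine congrArg (LinearMap.trace ℂ S.toSubmodule) (LinearMap.ext fun v => Subtype.ext ?_)
    obtain ⟨w, hw⟩ := v.2
    show τ h (v : V) = P (τ h (v : V))
    rw [← hw]
    show τ h (P w) = (P * τ h * P) w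
    rw [hPc, mul_assoc, hPP]
    rfl
  obtain ⟨p, hp, hp'⟩ := half 1 (by norm_num)
  obtain ⟨q, hq, hq'⟩ := half (-1) (by norm_num)
  refine ⟨p, q, hp, hq, fun h => ?_, fun h => ?_⟩
  · rw [hp', hq']
    simp only [Representation.character, smul_mul_assoc, add_mul, one_mul, neg_smul, neg_mul,
      one_smul, map_smul, map_add, map_neg, smul_eq_mul]
    ring
  · rw [hp', hq']
    simp only [smul_mul_assoc, add_mul, one_mul, neg_smul, neg_mul, one_smul, map_smul, map_add,
      map_neg, smul_eq_mul]
    ring

end CfsgLib.Char.OddSection
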