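import Cfsg.Agent.Lib.Char.OddSection.Lines
import Cfsg.Agent.Lib.Char.OddSection.Eigen
import Cfsg.Agent.Lib.Char.OddSection.Avg

/-!
# The invariant involution of an odd abelian section

For `ρ` irreducible on `K`, isotypic on `L`, `K / L` abelian, and a coprime group `S` of
automorphisms fixing the character without fixed linear characters of `K / L`: there is an
involution `J` in the commutant of `L`, carrying each `ρ k` to an element of
`span ρ(L) · ρ k⁻¹`, which commutes with all the intertwiners of automorphisms commuting with `S`.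
-/

set_option autoImplicit false
set_option linter.all false
set_option maxHeartbeats 800000

namespace CfsgLib.Char.OddSection

open Module

variable {K : Type*} [Group K] [Finite K] {V : Type*} [AddCommGroup V] [Module ℂ V]
  [FiniteDimensional ℂ V] {ρ : Representation ℂ K V} [ρ.IsIrreducible]
  {L : Subgroup K} [hLn : L.Normal]
  {U : Type*} [AddCommGroup U] [Module ℂ U] [FiniteDimensional ℂ U]
  {φ : Representation ℂ L U} [φ.IsIrreducible] {e : ℕ}
  (hres : ∀ l : L, ρ.character l = (e : ℂ) * φ.character l)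
  (hab : ∀ a b : K, a * b * a⁻¹ * b⁻¹ ∈ L)

/-- An involution inverting the lines. -/
structure IsInv (ρ : Representation ℂ K V) (L : Subgroup K) (J : Module.End ℂ V) : Prop where
  sq : J * J = 1
  commL : CommL ρ L J
  inverts : ∀ (f : linHoms L) (x : Module.End ℂ V), InLine ρ f.1 x →
    InLine ρ (f⁻¹ : linHoms L).1 (J * x * J)

include hres hab in
theorem exists_isInv : ∃ J, IsInv ρ L J := by
  classical
  let W : Submodule ℂ (Module.End ℂ V) :=
    { carrier := {x | CommL ρ L x}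
      add_mem' := fun {x y} hx hy l hl => by rw [add_mul, mul_add, hx l hl, hy l hl]
      zero_mem' := fun l hl => by simp
      smul_mem' := fun c x hx l hl => by rw [smul_mul_assoc, mul_smul_comm, hx l hl] }
  let 𝒯 : Set (Module.End ℂ (Module.End ℂ V)) :=
    {T | ∃ (f : linHoms L) (y : Module.End ℂ V), InLine ρ f.1 y ∧
      T = LinearMap.mulLeftRight ℂ (y, y)}
  have happ : ∀ y x : Module.End ℂ V, LinearMap.mulLeftRight ℂ (y, y) x = y * x * y := fun y x => by
    simp [LinearMap.mulLeftRight_apply]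
  have h1W : (1 : Module.End ℂ V) ∈ W := fun l hl => by simp
  have hVnt : Nontrivial V := nontrivial_of_irreducible ρ
  obtain ⟨X, hXW, hX0, hX⟩ := exists_common_eigenvector 𝒯 (by
    rintro S ⟨f, y, hy, rfl⟩ T ⟨g, z, hz, rfl⟩ x
    simp only [happ]
    rcases eq_or_ne y 0 with rfl | hy0
    · simp
    rcases eq_or_ne z 0 with rfl | hz0
    · simp
    obtain ⟨c, hc⟩ := InLine.exists_smul (InLine.mul_ne_zero hz0 hy0 hz hy)
      (show InLine ρ (g * f : linHoms L).1 _ from hz.mul hy)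
      (by
        have h := hy.mul hz
        rwa [mul_comm f.1] at h)
    have hc0 : c ≠ 0 := fun h => InLine.mul_ne_zero hy0 hz0 hy hz (by rw [hc, h, zero_smul])
    have hc' : z * y = c⁻¹ • (y * z) := by rw [hc, smul_smul, inv_mul_cancel₀ hc0, one_smul]
    calc y * (z * x * z) * y = (y * z) * x * (z * y) := by simp only [mul_assoc]
      _ = (c • (z * y)) * x * (c⁻¹ • (y * z)) := by rw [← hc, ← hc']
      _ = (z * y) * x * (y * z) := by
        rw [smul_mul_assoc, smul_mul_assoc, mul_smul_comm, smul_smul, mul_inv_cancel₀ hc0, one_smul]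
      _ = z * (y * x * y) * z := by simp only [mul_assoc])
    W (fun h => one_ne_zero ((Submodule.mem_bot ℂ).mp (h ▸ h1W)))
    (by
      rintro T ⟨f, y, hy, rfl⟩ x hx l hl
      rw [happ]
      have hyl := hy.commL l hl
      calc y * x * y * ρ l = y * x * (y * ρ l) := by simp only [mul_assoc]
        _ = y * (x * ρ l) * y := by rw [hyl]; simp only [mul_assoc]
        _ = (y * ρ l) * x * y := by rw [hx l hl]; simp only [mul_assoc]
        _ = ρ l * (y * x * y) := by rw [hyl]; simp only [mul_assoc])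
  have key : ∀ (f : linHoms L) (u : (Module.End ℂ V)ˣ), InLine ρ f.1 (u : Module.End ℂ V) →
      ∃ c : ℂ, c ≠ 0 ∧ X * (u : Module.End ℂ V) = c • (((u⁻¹ : (Module.End ℂ V)ˣ) : Module.End ℂ V) * X) ∧
        (u : Module.End ℂ V) * X = c • (X * ((u⁻¹ : (Module.End ℂ V)ˣ) : Module.End ℂ V)) := by
    intro f u hu
    obtain ⟨c, hc⟩ := hX _ ⟨f, _, hu, rfl⟩
    rw [happ] at hc
    refine ⟨c, fun h => ?_, ?_, ?_⟩
    · rw [h, zero_smul] at hc
      exact hX0 ((Units.mul_right_eq_zero u).mp ((Units.mul_left_eq_zero u).mp hc))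
    · rw [← mul_smul_comm, ← hc, mul_assoc, Units.inv_mul_cancel_left]
    · rw [← smul_mul_assoc, ← hc, Units.mul_inv_cancel_right]
  have := Fintype.ofFinite K
  have := Fintype.ofFinite (linHoms L)
  have hXu : IsUnit X := by
    rw [LinearMap.isUnit_iff_ker_eq_bot]
    rcases eq_bot_or_eq_top_of_invariant φ (ρ.comp L.subtype) (m := e) hres (LinearMap.ker X)
      (fun l v hv => by
        rw [LinearMap.mem_ker] at hv ⊢
        show (X * ρ l) v = 0
        rw [hXW l l.2, Module.End.mul_apply, hv, map_zero])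
      (fun x hx v hv => by
        rw [LinearMap.mem_ker] at hv ⊢
        rw [eq_sum_part hab (ρ := ρ) (x := x) fun l hl => hx ⟨l, hl⟩, LinearMap.coe_sum,
          Finset.sum_apply, map_sum]
        refine Finset.sum_eq_zero fun f _ => ?_
        rcases eq_or_ne (part (ρ := ρ) f x) 0 with h0 | h0
        · rw [h0, LinearMap.zero_apply, map_zero]
        obtain ⟨u, hu⟩ := InLine.isUnit h0 (part_inLine f x)
        obtain ⟨c, -, hc, -⟩ := key f u (hu ▸ part_inLine f x)
        rw [← hu, ← Module.End.mul_apply, hc, LinearMap.smul_apply, Module.End.mul_apply, hv,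
          map_zero, smul_zero]) with h | h
    · exact h
    · exact absurd (LinearMap.ker_eq_top.mp h) hX0
  obtain ⟨s, hs⟩ := eq_smul_of_lines hres hab (z := X * X)
    (fun l hl => by rw [mul_assoc, hXW l hl, ← mul_assoc, hXW l hl, mul_assoc])
    (fun f y hy => by
      rcases eq_or_ne y 0 with rfl | hy0
      · simp
      obtain ⟨u, rfl⟩ := InLine.isUnit hy0 hy
      obtain ⟨c, -, hc1, hc2⟩ := key f u hy
      rw [mul_assoc, hc1, mul_smul_comm, ← mul_assoc (u : Module.End ℂ V), hc2, smul_mul_assoc,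
        mul_assoc])
  have hs0 : s ≠ 0 := fun h => (hXu.mul hXu).ne_zero (by rw [hs, h, zero_smul])
  obtain ⟨t, ht⟩ := IsAlgClosed.exists_pow_nat_eq s⁻¹ (n := 2) (by norm_num)
  refine ⟨t • X, ?_, fun l hl => by rw [smul_mul_assoc, mul_smul_comm, hXW l hl], fun f x hx => ?_⟩
  · rw [smul_mul_assoc, mul_smul_comm, smul_smul, hs, smul_smul, ← pow_two, ht,
      inv_mul_cancel₀ hs0, one_smul]
  rcases eq_or_ne x 0 with rfl | hx0
  · intro k; simp
  obtain ⟨u, rfl⟩ := InLine.isUnit hx0 hx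
  obtain ⟨c, -, hc, -⟩ := key f u hx
  rw [smul_mul_assoc, hc, smul_smul, smul_mul_assoc, mul_smul_comm, mul_assoc, hs, mul_smul_comm,
    mul_one, smul_smul, smul_smul]
  exact hx.inv.smul _

include hres hab in
/-- Two involutions inverting the lines differ by a line element. -/
theorem IsInv.exists_line {J J₀ : Module.End ℂ V} (hJ : IsInv ρ L J) (hJ₀ : IsInv ρ L J₀) :
    ∃ g : linHoms L, InLine ρ g.1 (J * J₀) ∧ J * J₀ ≠ 0 := by
  have hVnt : Nontrivial V := nontrivial_of_irreducible ρ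
  have hne : J * J₀ ≠ 0 := fun h => one_ne_zero (α := Module.End ℂ V) (by
    calc (1 : Module.End ℂ V) = J * (J₀ * J₀) * J := by rw [hJ₀.sq, mul_one, hJ.sq]
      _ = 0 := by rw [← mul_assoc, h, zero_mul, zero_mul])
  obtain ⟨g, hg⟩ := exists_inLine_of_commute_scalar hres hab
    (y := J * J₀) (fun l hl => by rw [mul_assoc, hJ₀.commL l hl, ← mul_assoc, hJ.commL l hl, mul_assoc])
    hne fun f x hx hx0 => by
      have h := hJ.inverts _ _ (hJ₀.inverts f x hx)
      rw [inv_inv] at h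
      obtain ⟨c, hc⟩ := InLine.exists_smul hx0 hx h
      refine ⟨c, ?_⟩
      rw [← smul_mul_assoc, ← hc]
      simp only [← mul_assoc]
      rw [mul_assoc _ J J, hJ.sq, mul_one, mul_assoc _ J₀ J₀, hJ₀.sq, mul_one]
  exact ⟨g, hg, hne⟩

omit [φ.IsIrreducible] in
theorem IsInv.exists_shift {J₀ : Module.End ℂ V} (hJ₀ : IsInv ρ L J₀) {g : linHoms L}
    {y : Module.End ℂ V} (hy : InLine ρ g.1 y) (hy0 : y ≠ 0) :
    ∃ c : ℂ, IsInv ρ L (c • (y * J₀)) := by
  have hVnt : Nontrivial V := nontrivial_of_irreducible ρ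
  obtain ⟨u, rfl⟩ := InLine.isUnit hy0 hy
  have h2 := hJ₀.inverts g _ hy
  have h1 : InLine ρ (1 : K → ℂˣ) ((u : Module.End ℂ V) * (J₀ * u * J₀)) := by
    have h := hy.mul h2
    have he : g.1 * (g⁻¹ : linHoms L).1 = 1 := funext fun k => by simp
    rwa [he] at h
  obtain ⟨s, hs⟩ := exists_smul_of_inLine_one h1
  have hJu : IsUnit J₀ := ⟨⟨J₀, J₀, hJ₀.sq, hJ₀.sq⟩, rfl⟩
  have hs0 : s ≠ 0 := fun h => (u.isUnit.mul ((hJu.mul u.isUnit).mul hJu)).ne_zero (by
    rw [hs, h, zero_smul])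
  obtain ⟨t, ht⟩ := IsAlgClosed.exists_pow_nat_eq s⁻¹ (n := 2) (by norm_num)
  refine ⟨t, ?_, ?_, ?_⟩
  · rw [smul_mul_assoc, mul_smul_comm, smul_smul]
    have : (u : Module.End ℂ V) * J₀ * (u * J₀) = u * (J₀ * u * J₀) := by simp only [mul_assoc]
    rw [this, hs, smul_smul, ← pow_two, ht, inv_mul_cancel₀ hs0, one_smul]
  · intro l hl
    rw [smul_mul_assoc, mul_smul_comm, mul_assoc, hJ₀.commL l hl, ← mul_assoc, hy.commL l hl,
      mul_assoc]
  · intro f x hx
    have h3 := hJ₀.inverts (f * g) _ (show InLine ρ (f * g : linHoms L).1 _ from hx.mul hy)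
    have h4 : InLine ρ (g * (f * g)⁻¹ : linHoms L).1 _ := hy.mul h3
    rw [mul_inv, mul_comm f⁻¹, mul_inv_cancel_left] at h4
    have h5 := h4.smul (t * t)
    convert h5 using 1
    simp only [smul_mul_assoc, mul_smul_comm, smul_smul, mul_assoc]

/-- The action of an automorphism on linear characters. -/
def twist (τ : MulAut K) (hτ : ∀ l ∈ L, τ.symm l ∈ L) : linHoms L →* linHoms L where
  toFun f := ⟨fun k => f.1 (τ.symm k), fun a b => by simp only [map_mul, linHoms.map_mul],
    fun l hl => linHoms.map_of_mem f (hτ l hl)⟩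
  map_one' := rfl
  map_mul' _ _ := rfl

theorem twist_apply (τ : MulAut K) (hτ : ∀ l ∈ L, τ.symm l ∈ L) (f : linHoms L) (k : K) :
    (twist τ hτ f).1 k = f.1 (τ.symm k) := rfl

/-- An intertwiner of an automorphism. -/
def Intw (ρ : Representation ℂ K V) (τ : MulAut K) (u : (Module.End ℂ V)ˣ) : Prop :=
  ∀ k, (u : Module.End ℂ V) * ρ k = ρ (τ k) * (u : Module.End ℂ V)

omit hLn in
theorem exists_intw {τ : MulAut K} (h : ∀ k, ρ.character (τ k) = ρ.character k) :
    ∃ u, Intw ρ τ u := by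
  let σ : Representation ℂ K V := ρ.comp τ.toMonoidHom
  obtain ⟨E⟩ := nonempty_equiv_of_character_eq ρ σ (funext fun k => (h k).symm)
  exact ⟨{ val := E.toLinearEquiv.toLinearMap
           inv := E.toLinearEquiv.symm.toLinearMap
           val_inv := LinearMap.ext fun v => E.toLinearEquiv.apply_symm_apply v
           inv_val := LinearMap.ext fun v => E.toLinearEquiv.symm_apply_apply v },
    fun k => LinearMap.ext fun v => E.toIntertwiningMap.isIntertwining _ _ k v⟩

omit [Finite K] [FiniteDimensional ℂ V] [ρ.IsIrreducible] hLn in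
theorem Intw.mul {τ σ : MulAut K} {u v : (Module.End ℂ V)ˣ} (hu : Intw ρ τ u) (hv : Intw ρ σ v) :
    Intw ρ (τ * σ) (u * v) := fun k => by
  rw [Units.val_mul, mul_assoc, hv k, ← mul_assoc, hu (σ k), mul_assoc]; rfl

omit [Finite K] [FiniteDimensional ℂ V] [ρ.IsIrreducible] hLn in
theorem Intw.pow {τ : MulAut K} {u : (Module.End ℂ V)ˣ} (hu : Intw ρ τ u) :
    ∀ n : ℕ, Intw ρ (τ ^ n) (u ^ n)
  | 0 => fun k => by simp
  | n + 1 => by rw [pow_succ, pow_succ]; exact (Intw.pow hu n).mul hu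

omit hLn in
theorem Intw.exists_smul {τ : MulAut K} {u v : (Module.End ℂ V)ˣ} (hu : Intw ρ τ u)
    (hv : Intw ρ τ v) : ∃ c : ℂ, c ≠ 0 ∧ (v : Module.End ℂ V) = c • (u : Module.End ℂ V) := by
  have := Fintype.ofFinite K
  have hVnt : Nontrivial V := nontrivial_of_irreducible ρ
  obtain ⟨c, hc⟩ := exists_eq_smul_of_commute ρ
    (((u⁻¹ : (Module.End ℂ V)ˣ) : Module.End ℂ V) * v) fun k => by
      rw [mul_assoc, hv k, ← mul_assoc, ← mul_assoc]
      congr 1
      rw [Units.inv_mul_eq_iff_eq_mul, ← mul_assoc, hu k, mul_assoc, Units.mul_inv, mul_one]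
  rw [show (LinearMap.id : Module.End ℂ V) = 1 from rfl, Units.inv_mul_eq_iff_eq_mul,
    mul_smul_comm, mul_one] at hc
  exact ⟨c, fun h => v.ne_zero (by rw [hc, h, zero_smul]), hc⟩

omit [φ.IsIrreducible] in
theorem Intw.conj_inLine {τ : MulAut K} (hτ : ∀ l ∈ L, τ.symm l ∈ L) {u : (Module.End ℂ V)ˣ}
    (hu : Intw ρ τ u) {f : linHoms L} {x : Module.End ℂ V} (hx : InLine ρ f.1 x) :
    InLine ρ (twist τ hτ f).1
      ((u : Module.End ℂ V) * x * ((u⁻¹ : (Module.End ℂ V)ˣ) : Module.End ℂ V)) := fun k => by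
  obtain ⟨k, rfl⟩ := τ.surjective k
  rw [twist_apply, MulEquiv.symm_apply_apply, ← mul_assoc, ← mul_assoc, ← hu k, mul_assoc (u : Module.End ℂ V),
    hx k, mul_smul_comm, smul_mul_assoc]
  congr 1
  have h : ((u⁻¹ : (Module.End ℂ V)ˣ) : Module.End ℂ V) * ρ (τ k) =
      ρ k * ((u⁻¹ : (Module.End ℂ V)ˣ) : Module.End ℂ V) := by
    rw [Units.inv_mul_eq_iff_eq_mul, ← mul_assoc, hu k, mul_assoc, Units.mul_inv, mul_one]
  simp only [mul_assoc, h]

omit [φ.IsIrreducible] in
theorem Intw.conj_isInv {τ : MulAut K} (hτ : ∀ l ∈ L, τ.symm l ∈ L) (hτ' : ∀ l ∈ L, τ l ∈ L)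
    {u : (Module.End ℂ V)ˣ} (hu : Intw ρ τ u) {J : Module.End ℂ V} (hJ : IsInv ρ L J) :
    IsInv ρ L ((u : Module.End ℂ V) * J * ((u⁻¹ : (Module.End ℂ V)ˣ) : Module.End ℂ V)) := by
  refine ⟨?_, fun l hl => ?_, fun f x hx => ?_⟩
  · simp only [mul_assoc, Units.inv_mul_cancel_left]
    rw [← mul_assoc J J, hJ.sq, one_mul, Units.mul_inv]
  · obtain ⟨m, rfl⟩ := τ.surjective l
    have hm : m ∈ L := by simpa using hτ _ hl
    have h : ((u⁻¹ : (Module.End ℂ V)ˣ) : Module.End ℂ V) * ρ (τ m) =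
        ρ m * ((u⁻¹ : (Module.End ℂ V)ˣ) : Module.End ℂ V) := by
      rw [Units.inv_mul_eq_iff_eq_mul, ← mul_assoc, hu m, mul_assoc, Units.mul_inv, mul_one]
    rw [mul_assoc, h, ← mul_assoc, ← mul_assoc (ρ (τ m)), ← mul_assoc (ρ (τ m)), ← hu m,
      mul_assoc (u : Module.End ℂ V) J, hJ.commL m hm, ← mul_assoc]
  · have hτ'' : ∀ l ∈ L, (MulEquiv.symm τ).symm l ∈ L := hτ'
    have h := fun k => hu.conj_inLine hτ (f := (twist τ.symm hτ'' f)⁻¹)
      (hJ.inverts _ _ ((show Intw ρ τ.symm u⁻¹ from fun k => by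
        rw [Units.inv_mul_eq_iff_eq_mul, ← mul_assoc, hu (τ.symm k), MulEquiv.apply_symm_apply,
          mul_assoc, Units.mul_inv, mul_one]).conj_inLine hτ'' hx)) k
    have he : twist τ hτ ((twist τ.symm hτ'' f)⁻¹) = f⁻¹ :=
      linHoms.ext' fun k => by
        simp only [map_inv, InvMemClass.coe_inv, Pi.inv_apply, twist_apply, MulEquiv.symm_symm,
          MulEquiv.apply_symm_apply]
    rw [he] at h
    intro k
    have h6 := h k
    rw [inv_inv] at h6
    simpa only [mul_assoc, Units.inv_mul_cancel_left] using h6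

include hres hab in
/-- The main result on the involution. -/
theorem exists_involution {S : Type*} [Group S] [Finite S] (a : S →* MulAut K)
    (hcop : (Nat.card K).Coprime (Nat.card S)) (haL : ∀ s, ∀ l ∈ L, a s l ∈ L)
    (hθ : ∀ s k, ρ.character (a s k) = ρ.character k)
    (hfix : ∀ f : linHoms L, (∀ s k, f.1 (a s k) = f.1 k) → f = 1) :
    ∃ J : Module.End ℂ V, J * J = 1 ∧ CommL ρ L J ∧
      (∀ k, J * ρ k * J * ρ k ∈ Submodule.span ℂ (Set.range fun l : L => ρ l)) ∧
      ∀ (τ : MulAut K) (n : ℕ), Odd n → τ ^ n = 1 → (∀ l ∈ L, τ l ∈ L) →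
        (∀ s, τ * a s = a s * τ) → ∀ u : (Module.End ℂ V)ˣ, Intw ρ τ u →
          (u : Module.End ℂ V) * J = J * u := by
  classical
  have := Fintype.ofFinite S
  have hVnt : Nontrivial V := nontrivial_of_irreducible ρ
  have hsymm : ∀ s, ∀ l ∈ L, (a s).symm l ∈ L := fun s l hl => by
    have h := haL s⁻¹ l hl
    rwa [map_inv] at h
  let act : S → linHoms L →* linHoms L := fun s => twist (a s) (hsymm s)
  have hact : ∀ s t f, act (s * t) f = act s (act t f) := fun s t f =>
    linHoms.ext' fun k => by simp only [act, twist_apply, map_mul]; rfl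
  have hfix' : ∀ f : linHoms L, (∀ s, act s f = f) → f = 1 := fun f hf => hfix f fun s k => by
    have h := congrArg (fun g : linHoms L => g.1 (a s k)) (hf s)
    simp only [act, twist_apply, MulEquiv.symm_apply_apply] at h
    exact h.symm
  have hcopD : (Nat.card K).Coprime (Fintype.card S) := by rwa [← Nat.card_eq_fintype_card]
  choose u hu using fun s => exists_intw (ρ := ρ) (τ := a s) (hθ s)
  obtain ⟨J₀, hJ₀⟩ := exists_isInv hres hab
  -- the conjugates of `J₀`
  let y : S → Module.End ℂ V := fun s =>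
    (u s : Module.End ℂ V) * J₀ * (((u s)⁻¹ : (Module.End ℂ V)ˣ) : Module.End ℂ V) * J₀
  have hy : ∀ s, ∃ g : linHoms L, InLine ρ g.1 (y s) ∧ y s ≠ 0 := fun s =>
    ((hu s).conj_isInv (hsymm s) (haL s) hJ₀).exists_line hres hab hJ₀
  choose g hg hg0 using hy
  have hyJ : ∀ s, (u s : Module.End ℂ V) * J₀ * (((u s)⁻¹ : (Module.End ℂ V)ˣ) : Module.End ℂ V) =
      y s * J₀ := fun s => by simp only [y, mul_assoc, hJ₀.sq, mul_one]
  let A : Subgroup (linHoms L) :=
    { carrier := {f | ∃ x : Module.End ℂ V, x ≠ 0 ∧ InLine ρ f.1 x}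
      one_mem' := ⟨1, one_ne_zero, InLine.one⟩
      mul_mem' := fun {f h} ⟨x, hx0, hx⟩ ⟨z, hz0, hz⟩ =>
        ⟨x * z, InLine.mul_ne_zero hx0 hz0 hx hz, hx.mul hz⟩
      inv_mem' := fun {f} ⟨x, hx0, hx⟩ => by
        obtain ⟨v, rfl⟩ := InLine.isUnit hx0 hx
        exact ⟨_, (v⁻¹).ne_zero, hx.inv⟩ }
  obtain ⟨ν, ⟨z, hz0, hz⟩, hν⟩ := exists_cocycle_fix act A ⊥ linHoms.pow_card hcopD g
    (fun s => ⟨y s, hg0 s, hg s⟩) (fun s t => by
      rw [Subgroup.mem_bot, inv_mul_eq_one]
      obtain ⟨c, hc0, hc⟩ := ((hu s).mul (hu t)).exists_smul (by rw [← map_mul]; exact hu (s * t))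
      rw [Units.val_mul] at hc
      have hci : (((u (s * t))⁻¹ : (Module.End ℂ V)ˣ) : Module.End ℂ V) =
          c⁻¹ • ((((u t)⁻¹ : (Module.End ℂ V)ˣ) : Module.End ℂ V) *
            (((u s)⁻¹ : (Module.End ℂ V)ˣ) : Module.End ℂ V)) := by
        apply Units.inv_eq_of_mul_eq_one_right
        rw [hc, smul_mul_assoc, mul_smul_comm, smul_smul, mul_inv_cancel₀ hc0, one_smul, mul_assoc,
          ← mul_assoc (u t : Module.End ℂ V), Units.mul_inv, one_mul, Units.mul_inv]
      have hst : y (s * t) = (u s : Module.End ℂ V) * y t *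
          (((u s)⁻¹ : (Module.End ℂ V)ˣ) : Module.End ℂ V) * y s := by
        show (u (s * t) : Module.End ℂ V) * J₀ * _ * J₀ = _
        rw [hci, hc]
        simp only [smul_mul_assoc, mul_smul_comm, smul_smul, inv_mul_cancel₀ hc0, mul_inv_cancel₀ hc0,
          one_smul, y]
        simp only [mul_assoc, Units.inv_mul_cancel_left]
        rw [← mul_assoc J₀ J₀, hJ₀.sq, one_mul]
      refine Subtype.ext (InLine.ext_of_ne (hg0 _) (hg _) ?_)
      rw [hst]
      exact ((hu s).conj_inLine (hsymm s) (hg t)).mul (hg s))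
  -- the fixed involution
  obtain ⟨d, hJ⟩ := hJ₀.exists_shift hz hz0
  set J := d • (z * J₀) with hJdef
  have hd0 : d ≠ 0 := fun h => by
    have := hJ.sq
    rw [hJdef, h, zero_smul, zero_mul] at this
    exact zero_ne_one this
  have hJfix : ∀ s, ∃ c : ℂ, (u s : Module.End ℂ V) * J *
      (((u s)⁻¹ : (Module.End ℂ V)ˣ) : Module.End ℂ V) = c • J := by
    intro s
    have he : act s ν * g s = ν := by
      have := hν s
      rw [Subgroup.mem_bot, mul_assoc, inv_mul_eq_one] at this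
      exact this.symm
    have h1 : InLine ρ ν.1 ((u s : Module.End ℂ V) * z *
        (((u s)⁻¹ : (Module.End ℂ V)ˣ) : Module.End ℂ V) * y s) := by
      rw [← he]
      exact ((hu s).conj_inLine (hsymm s) hz).mul (hg s)
    obtain ⟨c, hc⟩ := InLine.exists_smul hz0 hz h1
    refine ⟨c, ?_⟩
    rw [hJdef, mul_smul_comm, smul_mul_assoc, smul_comm c d]
    congr 1
    rw [← smul_mul_assoc, ← hc, mul_assoc _ (y s), ← hyJ s]
    simp only [mul_assoc, Units.inv_mul_cancel_left]
  refine ⟨J, hJ.sq, hJ.commL, fun k => mem_span_of_lines hres hab fun f x hx => ?_,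
    fun τ n hn hτn hτL hcomm v hv => ?_⟩
  · -- `J ρ k J ρ k` commutes with the line elements
    have hx' := hJ.inverts f x hx
    have h1 : x * J = J * (J * x * J) := by rw [← mul_assoc, ← mul_assoc, hJ.sq, one_mul]
    have h1' : (J * x * J) * J = J * x := by rw [mul_assoc, hJ.sq, mul_one]
    have h2 : x * ρ k = ((f⁻¹ : linHoms L).1 k : ℂ) • (ρ k * x) := by
      rw [hx k, smul_smul]
      simp
    set x' := J * x * J with hx'def
    have h3 : x' * ρ k = (f.1 k : ℂ) • (ρ k * x') := by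
      rw [hx' k, smul_smul]
      simp
    calc J * ρ k * J * ρ k * x
        = J * ρ k * J * ((f.1 k : ℂ) • (x * ρ k)) := by rw [mul_assoc _ (ρ k) x, hx k]
      _ = (f.1 k : ℂ) • (J * ρ k * (J * x) * ρ k) := by simp only [mul_smul_comm, mul_assoc]
      _ = (f.1 k : ℂ) • (J * (ρ k * x') * J * ρ k) := by rw [← h1']; simp only [mul_assoc]
      _ = J * ((f.1 k : ℂ) • (ρ k * x')) * J * ρ k := by
        simp only [mul_smul_comm, smul_mul_assoc]
      _ = (J * x') * ρ k * J * ρ k := by rw [← h3]; simp only [mul_assoc]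
      _ = x * (J * ρ k * J * ρ k) := by rw [← h1]; simp only [mul_assoc]
  have hτsymm : ∀ l ∈ L, τ.symm l ∈ L := by
    intro l hl
    have hn0 : n ≠ 0 := fun h => by simp [h] at hn
    obtain ⟨m, rfl⟩ := Nat.exists_eq_succ_of_ne_zero hn0
    have hpow : ∀ i : ℕ, ∀ l ∈ L, (τ ^ i) l ∈ L := by
      intro i
      induction i with
      | zero => intro l hl; exact hl
      | succ i ih => intro l hl; rw [pow_succ]; exact ih _ (hτL l hl)
    have he : τ.symm = τ ^ m := by
      show τ⁻¹ = τ ^ m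
      rw [inv_eq_iff_mul_eq_one, ← pow_succ']
      exact hτn
    rw [he]
    exact hpow m l hl
  have hJ' := hv.conj_isInv hτsymm hτL hJ
  set J' := (v : Module.End ℂ V) * J * ((v⁻¹ : (Module.End ℂ V)ˣ) : Module.End ℂ V) with hJ'def
  obtain ⟨f, hf, hf0⟩ := hJ'.exists_line hres hab hJ
  have hf1 : f = 1 := by
    refine hfix' f fun s => Subtype.ext (InLine.ext_of_ne hf0 ?_ hf)
    obtain ⟨b, hb0, hb⟩ := ((hu s).mul hv).exists_smul (by
      rw [← hcomm s]; exact hv.mul (hu s))
    rw [Units.val_mul, Units.val_mul] at hb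
    have hbi : (((u s * v)⁻¹ : (Module.End ℂ V)ˣ) : Module.End ℂ V) =
        b • (((v * u s)⁻¹ : (Module.End ℂ V)ˣ) : Module.End ℂ V) := by
      apply Units.inv_eq_of_mul_eq_one_right
      rw [Units.val_mul, mul_smul_comm, ← smul_mul_assoc, ← hb, ← Units.val_mul, Units.mul_inv]
    obtain ⟨c, hc⟩ := hJfix s
    -- `u s` fixes the conjugate of `J` up to a scalar
    have h1 : (u s : Module.End ℂ V) * J' * (((u s)⁻¹ : (Module.End ℂ V)ˣ) : Module.End ℂ V) =
        c • J' := by
      have h2 : (u s : Module.End ℂ V) * J' * (((u s)⁻¹ : (Module.End ℂ V)ˣ) : Module.End ℂ V) =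
          (u s * v : (Module.End ℂ V)ˣ) * J * (((u s * v)⁻¹ : (Module.End ℂ V)ˣ) : Module.End ℂ V) := by
        simp only [hJ'def, mul_inv_rev, Units.val_mul, mul_assoc]
      rw [h2, hbi, Units.val_mul, mul_smul_comm, ← smul_mul_assoc, ← smul_mul_assoc, ← hb, hJ'def]
      have h3 : (v : Module.End ℂ V) * (c • J) * ((v⁻¹ : (Module.End ℂ V)ˣ) : Module.End ℂ V) =
          c • ((v : Module.End ℂ V) * J * ((v⁻¹ : (Module.End ℂ V)ˣ) : Module.End ℂ V)) := by
        rw [mul_smul_comm, smul_mul_assoc]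
      rw [← h3, ← hc]
      simp only [mul_inv_rev, Units.val_mul, mul_assoc]
    have h4 : (u s : Module.End ℂ V) * (J' * J) * (((u s)⁻¹ : (Module.End ℂ V)ˣ) : Module.End ℂ V) =
        (c * c) • (J' * J) := by
      calc _ = ((u s : Module.End ℂ V) * J' * (((u s)⁻¹ : (Module.End ℂ V)ˣ) : Module.End ℂ V)) *
            ((u s : Module.End ℂ V) * J * (((u s)⁻¹ : (Module.End ℂ V)ˣ) : Module.End ℂ V)) := by
            simp only [mul_assoc, Units.inv_mul_cancel_left]
        _ = _ := by rw [h1, hc, smul_mul_assoc, mul_smul_comm, smul_smul]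
    have h5 := (hu s).conj_inLine (hsymm s) hf
    rw [h4] at h5
    have hcc : c * c ≠ 0 := fun h => by
      rw [h, zero_smul] at h4
      exact hf0 ((Units.mul_right_eq_zero (u s)).mp ((Units.mul_left_eq_zero _).mp h4))
    have h6 := h5.smul (c * c)⁻¹
    rwa [smul_smul, inv_mul_cancel₀ hcc, one_smul] at h6
  subst hf1
  obtain ⟨c, hc⟩ := exists_smul_of_inLine_one hf
  have hJ'eq : J' = c • J := by
    calc J' = J' * (J * J) := by rw [hJ.sq, mul_one]
      _ = c • J := by rw [← mul_assoc, hc, smul_mul_assoc, one_mul]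
  have hc2 : c * c = 1 := by
    have h := hJ'.sq
    rw [hJ'eq, smul_mul_assoc, mul_smul_comm, smul_smul, hJ.sq] at h
    by_contra hne
    have h' : (c * c - 1) • (1 : Module.End ℂ V) = 0 := by rw [sub_smul, h, one_smul, sub_self]
    exact (smul_ne_zero (sub_ne_zero.mpr hne) one_ne_zero) h'
  have hvJ : (v : Module.End ℂ V) * J = c • (J * v) := by
    have h := congrArg (fun w => w * (v : Module.End ℂ V)) hJ'eq
    simp only [hJ'def, mul_assoc, Units.inv_mul, mul_one, smul_mul_assoc] at h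
    exact h
  have hpow : ∀ i : ℕ, ((v ^ i : (Module.End ℂ V)ˣ) : Module.End ℂ V) * J =
      c ^ i • (J * ((v ^ i : (Module.End ℂ V)ˣ) : Module.End ℂ V)) := by
    intro i
    induction i with
    | zero => simp
    | succ i ih =>
      rw [pow_succ v i, Units.val_mul, mul_assoc, hvJ, mul_smul_comm, ← mul_assoc, ih,
        smul_mul_assoc, smul_smul, mul_assoc, pow_succ']
  have hvn : ∃ b : ℂ, b ≠ 0 ∧ ((v ^ n : (Module.End ℂ V)ˣ) : Module.End ℂ V) = b • 1 := by
    obtain ⟨b, hb0, hb⟩ := (show Intw ρ (1 : MulAut K) 1 from fun k => by simp).exists_smul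
      (hτn ▸ hv.pow n)
    exact ⟨b, hb0, by rw [hb, Units.val_one]⟩
  obtain ⟨b, hb0, hb⟩ := hvn
  have hcn : c ^ n = 1 := by
    have h := hpow n
    rw [hb, smul_mul_assoc, one_mul, mul_smul_comm, mul_one, smul_smul] at h
    have hJ0 : J ≠ 0 := fun h0 => by
      have := hJ.sq
      rw [h0, zero_mul] at this
      exact zero_ne_one this
    have h' : b = c ^ n * b := by
      refine smul_left_injective ℂ hJ0 ?_
      simpa only [mul_smul] using h
    exact (mul_right_cancel₀ hb0 ((one_mul b).trans h')).symm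
  obtain ⟨m, rfl⟩ := hn
  rw [pow_succ, pow_mul, pow_two, hc2, one_pow, one_mul] at hcn
  rw [hvJ, hcn, one_smul]

end CfsgLib.Char.OddSection
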