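import Cfsg.Agent.Lib.Char.OddSection.Trace
import Cfsg.Agent.Lib.Char.OddSection.JOp
import Cfsg.Agent.Lib.Char.CliffordCorr
import Cfsg.Agent.Lib.CharDegree.Basic
import Cfsg.Agent.Lib.Core.Basic

/-!
# The parity correspondence over an invariant character of an abelian section
-/

set_option autoImplicit false
set_option linter.all false
set_option maxHeartbeats 800000

namespace CfsgLib.Char.OddSection

open Module CfsgLib.Clifford
open scoped ComplexConjugate

variable {G : Type*} [Group G] [Fintype G]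

/-- The multiplicity of `ψ` in the restriction of `χ` is odd. -/
def OddMult (H : Subgroup G) [Fintype H] (χ : G → ℂ) (ψ : H → ℂ) : Prop :=
  ∃ m : ℕ, Cfsg.classInner (fun h : H => χ h) ψ = (m : ℂ) ∧ Odd m

theorem classInner_irr_sum {X : Type*} [Group X] [Fintype X] [Fintype (Cfsg.IrrCharacter X)]
    (c d : Cfsg.IrrCharacter X → ℂ) :
    Cfsg.classInner (∑ ψ, c ψ • (ψ : X → ℂ)) (∑ ψ, d ψ • (ψ : X → ℂ)) = ∑ ψ, c ψ * conj (d ψ) := by
  rw [classInner_sum_right]
  refine Finset.sum_congr rfl fun ψ _ => ?_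
  rw [classInner_smul_right, classInner_sum_irr, mul_comm]

/-- An irreducible character whose restriction meets an invariant irreducible character restricts
to a multiple of it. -/
theorem over_of_classInner {K : Subgroup G} [hK : K.Normal] [Fintype K] {θ : K → ℂ}
    (hθ : Cfsg.IsIrrCharacter K θ) (hinv : ∀ g k, θ (conjIn K g k) = θ k)
    {χ : G → ℂ} (hχ : Cfsg.IsIrrCharacter G χ)
    (hc : Cfsg.classInner (fun k : K => χ k) θ ≠ 0) :
    ∃ m : ℕ, m ≠ 0 ∧ Cfsg.classInner (fun k : K => χ k) θ = m ∧ ∀ k : K, χ k = (m : ℂ) * θ k := by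
  classical
  obtain ⟨m, hm⟩ := IsChar.classInner_eq_natCast (IsChar.restrict K (IsIrr.isCharacter hχ))
    (IsIrr.isCharacter hθ)
  have horb : Finset.univ.image (conjFn hK θ) = {θ} := by
    apply Finset.eq_singleton_iff_unique_mem.mpr
    refine ⟨Finset.mem_image.mpr ⟨1, Finset.mem_univ _, conjFn_one hK _⟩, fun φ hφ => ?_⟩
    obtain ⟨g, -, rfl⟩ := Finset.mem_image.mp hφ
    exact funext fun k => (congrArg θ (Subtype.ext (conjIn_coe K g k).symm)).trans (hinv g k)
  refine ⟨m, fun h => hc (by rw [hm, h, Nat.cast_zero]), hm, fun k => ?_⟩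
  have h := restrict_eq_smul_orbit_sum hK hχ hθ hc
  rw [horb, Finset.sum_singleton, hm] at h
  exact congrFun h k

variable (K : Subgroup G) [hKn : K.Normal] [Fintype K]
  {V₀ : Type*} [AddCommGroup V₀] [Module ℂ V₀] [FiniteDimensional ℂ V₀]
  (ρ : Representation ℂ K V₀) [ρ.IsIrreducible]
  {L : Subgroup K} [hLn : L.Normal] (H : Subgroup G) [Fintype H]
  {U : Type*} [AddCommGroup U] [Module ℂ U] [FiniteDimensional ℂ U]
  (φ : Representation ℂ L U) [φ.IsIrreducible] {e : ℕ}

theorem parity_core (hodd : Odd (Nat.card G)) (hab : ∀ a b : K, a * b * a⁻¹ * b⁻¹ ∈ L)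
    (hinv : ∀ g k, ρ.character (conjIn K g k) = ρ.character k)
    (hHL : ∀ h ∈ H, ∀ l ∈ L, conjIn K h l ∈ L) (hLH : ∀ l ∈ L, ((l : K) : G) ∈ H)
    (hHK : ∀ k : K, (k : G) ∈ H → k ∈ L)
    (hgen : K ⊔ H = ⊤) (J : Module.End ℂ V₀) (hJ : J * J = 1)
    (hJL : ∀ l ∈ L, J * ρ l = ρ l * J)
    (hJK : ∀ k, J * ρ k * J * ρ k ∈ Submodule.span ℂ (Set.range fun l : L => ρ l))
    (hJH : ∀ h ∈ H, ∀ u : (Module.End ℂ V₀)ˣ,
      (∀ k, (u : Module.End ℂ V₀) * ρ k = ρ (conjIn K h k) * u) →
        (u : Module.End ℂ V₀) * J = J * u)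
    (hres : ∀ l : L, ρ.character l = (e : ℂ) * φ.character l) :
    (∀ χ : Cfsg.IrrCharacter G, Over K ρ (χ : G → ℂ) →
      ∃! ψ : Cfsg.IrrCharacter H, OddMult H (χ : G → ℂ) (ψ : H → ℂ)) ∧
    (∀ χ χ' : Cfsg.IrrCharacter G, Over K ρ (χ : G → ℂ) → Over K ρ (χ' : G → ℂ) →
      ∀ ψ : Cfsg.IrrCharacter H, OddMult H (χ : G → ℂ) (ψ : H → ℂ) →
        OddMult H (χ' : G → ℂ) (ψ : H → ℂ) → χ = χ') ∧
    (∀ (ψ : Cfsg.IrrCharacter H) (m : ℕ),
      (∀ l : L, (ψ : H → ℂ) ⟨((l : K) : G), hLH l l.2⟩ = (m : ℂ) * φ.character l) →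
      ∃ χ : Cfsg.IrrCharacter G, Over K ρ (χ : G → ℂ) ∧ OddMult H (χ : G → ℂ) (ψ : H → ℂ)) := by
  classical
  have := Fintype.ofFinite (Cfsg.IrrCharacter H)
  have := Fintype.ofFinite (Cfsg.IrrCharacter G)
  have := Fintype.ofFinite L
  -- the signed restrictions
  have hsigned : ∀ χ : {χ : Cfsg.IrrCharacter G // Over K ρ (χ : G → ℂ)},
      ∃ (n : ℕ) (σ : Representation ℂ G (Fin n → ℂ))
        (Φ : Module.End ℂ V₀ →ₐ[ℂ] Module.End ℂ (Fin n → ℂ)),
        σ.IsIrreducible ∧ σ.character = (χ.1 : G → ℂ) ∧ ∀ k, Φ (ρ k) = σ k := by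
    rintro ⟨χ, m, hm⟩
    obtain ⟨n, σ, hσ, hσc⟩ := χ.2
    obtain ⟨Φ, hΦ⟩ := exists_algHom ρ (σ.comp K.subtype) (m := m) fun k =>
      (congrFun hσc k).trans (hm k)
    exact ⟨n, σ, Φ, hσ, hσc, hΦ⟩
  choose n σ Φ hσi hσc hΦ using hsigned
  have hcoef : ∀ χ, ∃ a b : Cfsg.IrrCharacter H → ℕ,
      (∀ ψ : Cfsg.IrrCharacter H,
        Cfsg.classInner (fun h : H => (χ.1 : G → ℂ) h) (ψ : H → ℂ) = ((a ψ + b ψ : ℕ) : ℂ)) ∧
      (fun h : H => LinearMap.trace ℂ _ (Φ χ J * σ χ h)) =
        ∑ ψ, ((a ψ : ℂ) - (b ψ : ℂ)) • (ψ : H → ℂ) := by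
    intro χ
    obtain ⟨p, q, hp, hq, hsum, hdiff⟩ := exists_signed_split ((σ χ).comp H.subtype) (Φ χ J)
      (by rw [← map_mul, hJ, map_one])
      (fun h => comm_of_intertwiners K ρ H hinv J hJH (σ χ) (Φ χ) (hΦ χ) h h.2)
    obtain ⟨a, rfl⟩ := IsChar.exists_sum hp
    obtain ⟨b, rfl⟩ := IsChar.exists_sum hq
    refine ⟨a, b, fun ψ => ?_, ?_⟩
    · have he : (fun h : H => (χ.1 : G → ℂ) h) =
          (∑ ψ, (a ψ : ℂ) • (ψ : H → ℂ)) + ∑ ψ, (b ψ : ℂ) • (ψ : H → ℂ) :=
        funext fun h => (congrFun (hσc χ) h).symm.trans (hsum h)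
      rw [he, classInner_add_left, classInner_sum_irr, classInner_sum_irr, Nat.cast_add]
    · funext h
      refine (hdiff h).trans ?_
      simp [sub_smul, Finset.sum_sub_distrib, Finset.sum_apply, sub_mul]
  choose a b hmult hv using hcoef
  let d : {χ : Cfsg.IrrCharacter G // Over K ρ (χ : G → ℂ)} → Cfsg.IrrCharacter H → ℤ :=
    fun χ ψ => (a χ ψ : ℤ) - b χ ψ
  have horth : ∀ χ χ', ∑ ψ, d χ' ψ * d χ ψ = if χ' = χ then 1 else 0 := by
    intro χ χ'
    have h := classInner_signed K ρ H hodd hab hinv hHL hLH hgen J hJ hJL hJK hJH (σ χ) (σ χ')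
      (Φ χ) (Φ χ') (hΦ χ) (hΦ χ')
    rw [hv, hv, classInner_irr_sum, hσc, hσc, classInner_irr] at h
    have h2 : ((∑ ψ, d χ' ψ * d χ ψ : ℤ) : ℂ) = ((if χ' = χ then 1 else 0 : ℤ) : ℂ) := by
      simp only [d, Int.cast_sum, Int.cast_mul, Int.cast_sub, Int.cast_natCast, Int.cast_ite,
        Int.cast_one, Int.cast_zero]
      simp only [map_sub, map_natCast] at h
      rw [h]
      simp [Subtype.ext_iff]
    exact_mod_cast h2
  have hsingle : ∀ χ, ∃ ψ, (d χ ψ = 1 ∨ d χ ψ = -1) ∧ ∀ ψ', ψ' ≠ ψ → d χ ψ' = 0 := by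
    intro χ
    have h := horth χ χ
    rw [if_pos rfl] at h
    obtain ⟨ψ, hψ⟩ : ∃ ψ, d χ ψ ≠ 0 := by
      by_contra hno
      push Not at hno
      simp [hno] at h
    rw [← Finset.add_sum_erase _ _ (Finset.mem_univ ψ)] at h
    have h1 : 1 ≤ d χ ψ * d χ ψ := by
      have := mul_self_pos.mpr hψ
      omega
    have h2 : 0 ≤ ∑ x ∈ Finset.univ.erase ψ, d χ x * d χ x :=
      Finset.sum_nonneg fun x _ => mul_self_nonneg _
    refine ⟨ψ, mul_self_eq_one_iff.mp (by omega), fun ψ' hne => ?_⟩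
    have h3 := (Finset.sum_eq_zero_iff_of_nonneg fun x _ => mul_self_nonneg (d χ x)).mp
      (show ∑ x ∈ Finset.univ.erase ψ, d χ x * d χ x = 0 by omega) ψ'
      (Finset.mem_erase.mpr ⟨hne, Finset.mem_univ _⟩)
    exact mul_self_eq_zero.mp h3
  choose corr hcorr hzero using hsingle
  have hiff : ∀ (χ : {χ : Cfsg.IrrCharacter G // Over K ρ (χ : G → ℂ)}) (ψ : Cfsg.IrrCharacter H),
      OddMult H (χ.1 : G → ℂ) (ψ : H → ℂ) ↔ ψ = corr χ := by
    intro χ ψ
    constructor
    · rintro ⟨m, hm, hm'⟩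
      rw [hmult, Nat.cast_inj] at hm
      by_contra hne
      have h := hzero χ ψ hne
      simp only [d, sub_eq_zero, Nat.cast_inj] at h
      obtain ⟨i, hi⟩ := hm'
      omega
    · rintro rfl
      refine ⟨_, hmult χ _, ?_⟩
      have h := hcorr χ
      simp only [d] at h
      rcases h with h | h
      · exact ⟨b χ (corr χ), by omega⟩
      · exact ⟨a χ (corr χ), by omega⟩
  refine ⟨fun χ hχ => ⟨corr ⟨χ, hχ⟩, (hiff ⟨χ, hχ⟩ _).mpr rfl, fun ψ hψ => (hiff ⟨χ, hχ⟩ ψ).mp hψ⟩,
    fun χ χ' hχ hχ' ψ hψ hψ' => ?_, fun ψ m hm => ?_⟩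
  · have h1 := (hiff ⟨χ, hχ⟩ ψ).mp hψ
    have h2 := (hiff ⟨χ', hχ'⟩ ψ).mp hψ'
    by_contra hne
    have h := horth ⟨χ, hχ⟩ ⟨χ', hχ'⟩
    rw [if_neg (fun he => hne (congrArg Subtype.val he).symm), Finset.sum_eq_single ψ (fun x _ hx => by
      rw [hzero ⟨χ, hχ⟩ x (h1 ▸ hx), mul_zero]) (by simp)] at h
    rcases mul_eq_zero.mp h with h | h
    · have := hcorr ⟨χ', hχ'⟩
      rw [← h2] at this
      omega
    · have := hcorr ⟨χ, hχ⟩
      rw [← h1] at this
      omega
  · set θ : K → ℂ := ρ.character with hθ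
    have hθi : Cfsg.IsIrrCharacter K θ := isIrrCharacter_rep ρ
    -- the inner product of the restriction of `ψ^G` with `θ`
    have hvalue : Cfsg.classInner (fun k : K => Cfsg.indFun H (ψ : H → ℂ) k) θ = ((e * m : ℕ) : ℂ) := by
      have hθG : ∀ g : G, Cfsg.indFun K θ g =
          if h : g ∈ K then (Nat.card G : ℂ) / (Nat.card K : ℂ) * θ ⟨g, h⟩ else 0 := by
        intro g
        split_ifs with h
        · rw [indFun_coe_normal hKn θ ⟨g, h⟩, Finset.sum_congr rfl fun x _ =>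
            show conjFn hKn θ x ⟨g, h⟩ = θ ⟨g, h⟩ from
              (congrArg θ (Subtype.ext (conjIn_coe K x ⟨g, h⟩).symm)).trans (hinv x _),
            Finset.sum_const, Finset.card_univ, nsmul_eq_mul]
          simp only [Nat.card_eq_fintype_card]
          ring
        · exact indFun_eq_zero_off_normal hKn θ h
      have h1 : Cfsg.classInner (fun k : K => Cfsg.indFun H (ψ : H → ℂ) k) θ =
          Cfsg.classInner (ψ : H → ℂ) (fun h : H => Cfsg.indFun K θ h) := by
        rw [← classInner_conj_symm, ← frobenius_reciprocity K θ (isClassFunction_indFun H _),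
          classInner_conj_symm, frobenius_reciprocity H _ (isClassFunction_indFun K θ)]
      have hcard : Nat.card G * Nat.card L = Nat.card H * Nat.card K := by
        have h := Core.card_sup_mul_card_inf H K Subgroup.le_normalizer_of_normal
        rw [sup_comm, hgen, Subgroup.card_top] at h
        have he : Nat.card (H ⊓ K : Subgroup G) = Nat.card L :=
          Nat.card_congr
            { toFun := fun x => ⟨⟨x.1, x.2.2⟩, hHK _ x.2.1⟩
              invFun := fun l => ⟨((l : K) : G), hLH l l.2, (l : K).2⟩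
              left_inv := fun x => rfl
              right_inv := fun l => rfl }
        rwa [he] at h
      let emb : L → H := fun l => ⟨((l : K) : G), hLH l l.2⟩
      have h2 : ∑ h : H, (ψ : H → ℂ) h * conj (Cfsg.indFun K θ h) =
          (Nat.card G : ℂ) / (Nat.card K : ℂ) * ∑ l : L, (ψ : H → ℂ) (emb l) * conj (θ l) := by
        rw [Finset.mul_sum]
        symm
        refine Finset.sum_bij_ne_zero (fun l _ _ => emb l) (fun _ _ _ => Finset.mem_univ _)
          (fun l₁ _ _ l₂ _ _ h => Subtype.ext (Subtype.ext (congrArg Subtype.val h :)))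
          (fun h _ hne => ?_) (fun l _ _ => ?_)
        · have hK : (h : G) ∈ K := by
            by_contra hno
            exact hne (by rw [hθG, dif_neg hno, map_zero, mul_zero])
          refine ⟨⟨⟨h, hK⟩, hHK ⟨h, hK⟩ h.2⟩, Finset.mem_univ _, ?_, rfl⟩
          rw [hθG, dif_pos hK] at hne
          intro h0
          apply hne
          rw [map_mul, map_div₀, map_natCast, map_natCast, mul_left_comm]
          exact h0
        · rw [hθG, dif_pos (l : K).2, map_mul, map_div₀, map_natCast, map_natCast, mul_left_comm]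
      have hφ := classInner_irr_self (irrOfRep φ)
      change Cfsg.classInner φ.character φ.character = 1 at hφ
      rw [h1]
      unfold Cfsg.classInner at hφ ⊢
      rw [h2]
      have h3 : ∑ l : L, (ψ : H → ℂ) (emb l) * conj (θ l) =
          (m : ℂ) * (e : ℂ) * ∑ l : L, φ.character l * conj (φ.character l) := by
        rw [Finset.mul_sum]
        refine Finset.sum_congr rfl fun l _ => ?_
        rw [show (ψ : H → ℂ) (emb l) = _ from hm l, show θ l = _ from hres l, map_mul, map_natCast]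
        ring
      rw [h3]
      have hK0 : (Nat.card K : ℂ) ≠ 0 := Nat.cast_ne_zero.mpr Nat.card_pos.ne'
      have hH0 : (Nat.card H : ℂ) ≠ 0 := Nat.cast_ne_zero.mpr Nat.card_pos.ne'
      have hL0 : (Nat.card L : ℂ) ≠ 0 := Nat.cast_ne_zero.mpr Nat.card_pos.ne'
      have hc : (Nat.card G : ℂ) * Nat.card L = Nat.card H * Nat.card K := by exact_mod_cast hcard
      set SL := ∑ l : L, φ.character l * conj (φ.character l) with hS
      have hS' : SL = Nat.card L := by
        field_simp at hφ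
        linear_combination hφ
      rw [hS']
      push_cast
      field_simp
      linear_combination (e : ℂ) * (m : ℂ) * hc
    -- expansion
    have hnat : ∀ χ : Cfsg.IrrCharacter G, ∃ A B : ℕ,
        Cfsg.classInner (fun h : H => (χ : G → ℂ) h) (ψ : H → ℂ) = A ∧
          Cfsg.classInner (fun k : K => (χ : G → ℂ) k) θ = B := fun χ => by
      obtain ⟨A, hA⟩ := IsChar.classInner_eq_natCast (IsChar.restrict H (IsIrr.isCharacter χ.2))
        (IsIrr.isCharacter ψ.2)
      obtain ⟨B, hB⟩ := IsChar.classInner_eq_natCast (IsChar.restrict K (IsIrr.isCharacter χ.2))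
        (IsIrr.isCharacter hθi)
      exact ⟨A, B, hA, hB⟩
    choose A B hA hB using hnat
    have hexp : Cfsg.classInner (fun k : K => Cfsg.indFun H (ψ : H → ℂ) k) θ =
        ((∑ χ, A χ * B χ : ℕ) : ℂ) := by
      have h := classFunction_eq_sum (isClassFunction_indFun H (ψ : H → ℂ))
      have h2 : (fun k : K => Cfsg.indFun H (ψ : H → ℂ) k) = ∑ χ : Cfsg.IrrCharacter G,
          Cfsg.classInner (Cfsg.indFun H (ψ : H → ℂ)) (χ : G → ℂ) • fun k : K => (χ : G → ℂ) k := by
        funext k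
        have h3 := congrFun h (k : G)
        simpa [Finset.sum_apply] using h3
      rw [h2, classInner_sum_left, Nat.cast_sum]
      refine Finset.sum_congr rfl fun χ _ => ?_
      rw [classInner_smul_left, hB, frobenius_reciprocity H _ (IsIrr.isClassFunction χ.2),
        ← classInner_conj_symm, hA, map_natCast, Nat.cast_mul]
    rw [hvalue, Nat.cast_inj] at hexp
    have hoddH : Odd (Nat.card H) := Odd.of_dvd_nat hodd H.card_subgroup_dvd_card
    have hoddK : Odd (Nat.card K) := Odd.of_dvd_nat hodd K.card_subgroup_dvd_card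
    have hψ1 : Odd m := by
      have hd := Odd.of_dvd_nat hoddH (CharDegree.charDegree_dvd_card ψ)
      have h := hm 1
      rw [Representation.char_one] at h
      have h2 : Cfsg.charDegree (ψ : H → ℂ) = m * finrank ℂ U := by
        apply Nat.cast_injective (R := ℂ)
        rw [CharDegree.cast_irrDegree, Nat.cast_mul]
        exact h
      exact (Nat.odd_mul.mp (h2 ▸ hd)).1
    have he : Odd e := by
      have hd := Odd.of_dvd_nat hoddK (CharDegree.charDegree_dvd_card (irrOfRep ρ))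
      have h : ρ.character ((1 : L) : K) = _ := hres 1
      rw [OneMemClass.coe_one] at h
      have h2 : Cfsg.charDegree (irrOfRep ρ : K → ℂ) = e * finrank ℂ U := by
        apply Nat.cast_injective (R := ℂ)
        rw [CharDegree.cast_irrDegree, Nat.cast_mul]
        show ρ.character 1 = _
        rw [h, Representation.char_one]
      exact (Nat.odd_mul.mp (h2 ▸ hd)).1
    obtain ⟨χ, hχ⟩ : ∃ χ, Odd (A χ * B χ) := by
      by_contra hno
      push Not at hno
      have h2 : Even (∑ χ, A χ * B χ) :=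
        (even_iff_two_dvd).mpr (Finset.dvd_sum fun χ _ => even_iff_two_dvd.mp (by
          simpa using hno χ))
      rw [← hexp] at h2
      exact (Nat.not_even_iff_odd.mpr (he.mul hψ1)) h2
    obtain ⟨hA1, hB1⟩ := Nat.odd_mul.mp hχ
    obtain ⟨i, -, -, hi⟩ := over_of_classInner hθi hinv χ.2 (by
      rw [hB]
      exact Nat.cast_ne_zero.mpr fun h0 => by simp [h0] at hB1)
    exact ⟨χ, ⟨i, hi⟩, A χ, hA χ, hA1⟩

end CfsgLib.Char.OddSection
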