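import Cfsg.Agent.Lib.Core.Coprime
import Mathlib.GroupTheory.SemidirectProduct

/-!
# Coprime operators: fixed points in cosets and orbits
-/

set_option autoImplicit false
set_option linter.all false

namespace CfsgLib.Char.OddSection

variable {G S : Type*} [Group G] [Group S] [Finite G] [Finite S] (a : S →* MulAut G)

omit [Finite G] [Finite S] in
theorem lift_conj_compat (s : S) :
    (MulAut.conj : G →* MulAut G).comp (a s).toMonoidHom =
      (MulAut.conj (a s)).toMonoidHom.comp (MulAut.conj : G →* MulAut G) :=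
  MonoidHom.ext fun g => MulEquiv.ext fun x => by
    simp [MulAut.conj_apply, MulAut.mul_def, MulAut.inv_def]

theorem exists_fixed_in_coset (hcop : (Nat.card G).Coprime (Nat.card S))
    (hsolv : Group.IsSolvable G) (N : Subgroup G) (hN : ∀ s, ∀ n ∈ N, a s n ∈ N) {g : G}
    (hg : ∀ s, g⁻¹ * a s g ∈ N) : ∃ n ∈ N, ∀ s, a s (g * n) = g * n := by
  have : Finite (G ⋊[a] S) := Finite.of_equiv _ SemidirectProduct.equivProd.symm
  let A : Subgroup (G ⋊[a] S) := (SemidirectProduct.inr : S →* G ⋊[a] S).range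
  let N' : Subgroup (G ⋊[a] S) := N.map SemidirectProduct.inl
  have hAN : A ≤ Subgroup.normalizer (N' : Set (G ⋊[a] S)) := by
    rw [Subgroup.le_normalizer_iff]
    rintro _ ⟨s, rfl⟩ _ ⟨n, hn, rfl⟩
    exact ⟨a s n, hN s n hn, (SemidirectProduct.inl_aut s n).trans (by rw [map_inv])⟩
  have hcA : Nat.card A = Nat.card S :=
    Nat.card_congr (MonoidHom.ofInjective SemidirectProduct.inr_injective).toEquiv.symm
  have hcN : Nat.card N' = Nat.card N :=
    Nat.card_congr (N.equivMapOfInjective _ SemidirectProduct.inl_injective).toEquiv.symm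
  have hsolvN : Group.IsSolvable N' := by
    haveI := hsolv
    exact Group.isSolvable_of_surjective (f := (N.equivMapOfInjective
      (SemidirectProduct.inl : G →* G ⋊[a] S) SemidirectProduct.inl_injective).toMonoidHom)
      (MulEquiv.surjective _)
  obtain ⟨_, ⟨n, hn, rfl⟩, hc⟩ := CfsgLib.Core.exists_centralizing_in_coset hAN
    (by rw [hcA, hcN]; exact (hcop.coprime_dvd_left N.card_subgroup_dvd_card).symm)
    (Or.inr hsolvN) (k := SemidirectProduct.inl g) (by
      rintro _ ⟨s, rfl⟩
      exact ⟨g⁻¹ * a s g, hg s, by rw [map_mul, map_inv, SemidirectProduct.inl_aut, map_inv]⟩)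
  refine ⟨n, hn, fun s => SemidirectProduct.inl_injective (φ := a) ?_⟩
  rw [SemidirectProduct.inl_aut, map_inv, map_mul, mul_inv_eq_iff_eq_mul]
  exact Subgroup.mem_centralizer_iff.mp hc _ ⟨s, rfl⟩

theorem exists_fixed_in_orbit (hcop : (Nat.card G).Coprime (Nat.card S))
    (hsolv : Group.IsSolvable G) {X : Type*} [MulAction (MulAut G) X] {x : X}
    (hx : ∀ s, ∃ g : G, a s • x = MulAut.conj g • x) :
    ∃ g : G, ∀ s, a s • MulAut.conj g • x = MulAut.conj g • x := by
  have : Finite (G ⋊[a] S) := Finite.of_equiv _ SemidirectProduct.equivProd.symm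
  let ψ : G ⋊[a] S →* MulAut G :=
    SemidirectProduct.lift MulAut.conj a (lift_conj_compat a)
  letI : MulAction (G ⋊[a] S) X := MulAction.compHom X ψ
  have hl : ∀ g (y : X), (SemidirectProduct.inl g : G ⋊[a] S) • y = MulAut.conj g • y := fun g y => by
    show ψ _ • y = _
    rw [SemidirectProduct.lift_inl]
  have hr : ∀ s (y : X), (SemidirectProduct.inr s : G ⋊[a] S) • y = a s • y := fun s y => by
    show ψ _ • y = _
    rw [SemidirectProduct.lift_inr]
  let A : Subgroup (G ⋊[a] S) := (SemidirectProduct.inr : S →* G ⋊[a] S).range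
  let K : Subgroup (G ⋊[a] S) := (SemidirectProduct.inl : G →* G ⋊[a] S).range
  have hAK : A ≤ Subgroup.normalizer (K : Set (G ⋊[a] S)) := by
    rw [Subgroup.le_normalizer_iff]
    rintro _ ⟨s, rfl⟩ _ ⟨n, rfl⟩
    exact ⟨a s n, (SemidirectProduct.inl_aut s n).trans (by rw [map_inv])⟩
  have hcA : Nat.card A = Nat.card S :=
    Nat.card_congr (MonoidHom.ofInjective SemidirectProduct.inr_injective).toEquiv.symm
  have hcK : Nat.card K = Nat.card G :=
    Nat.card_congr (MonoidHom.ofInjective SemidirectProduct.inl_injective).toEquiv.symm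
  have hsolvK : Group.IsSolvable K := by
    haveI := hsolv
    exact Group.isSolvable_of_surjective
      (f := (SemidirectProduct.inl : G →* G ⋊[a] S).rangeRestrict)
      (MonoidHom.rangeRestrict_surjective _)
  obtain ⟨_, ⟨g, rfl⟩, hg⟩ := CfsgLib.Core.exists_fixed_point hAK
    (by rw [hcA, hcK]; exact hcop.symm) (Or.inr hsolvK) (x := x) (by
      rintro _ ⟨s, rfl⟩
      obtain ⟨g, hg⟩ := hx s
      exact ⟨_, ⟨g, rfl⟩, by rw [hr, hl, hg]⟩)
  refine ⟨g, fun s => ?_⟩
  have h := hg _ ⟨s, rfl⟩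
  rwa [hl, hr] at h

end CfsgLib.Char.OddSection
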