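import Cfsg.Agent.Lib.Char.OddSection.Invariant
import Cfsg.Agent.Lib.Char.OddSection.FixedOver
import Cfsg.Agent.Lib.Char.OddSection.Operators

/-!
# The invariant case of the abelian section correspondence
-/

set_option autoImplicit false
set_option linter.all false
set_option maxHeartbeats 800000

namespace CfsgLib.Char.OddSection

open CfsgLib.Clifford

variable {G : Type*} [Group G] [Fintype G] {S : Type*} [Group S] [Finite S]

/-- A function on a subgroup is invariant under the operators. -/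
def InvOn (a : S →* MulAut G) (H : Subgroup G) (f : H → ℂ) : Prop :=
  ∀ s, ∀ h h' : H, (h' : G) = a s (h : G) → f h' = f h

/-- The restriction of a group of automorphisms to an invariant subgroup. -/
def restrAut (a : S →* MulAut G) (K : Subgroup G) (hK : ∀ s, ∀ k ∈ K, a s k ∈ K) : S →* MulAut K where
  toFun s :=
    { toFun := fun k => ⟨a s (k : G), hK s k k.2⟩
      invFun := fun k => ⟨a s⁻¹ (k : G), hK s⁻¹ k k.2⟩
      left_inv := fun k => Subtype.ext (by simp [map_inv])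
      right_inv := fun k => Subtype.ext (by simp [map_inv])
      map_mul' := fun x y => Subtype.ext (map_mul (a s) (x : G) (y : G)) }
  map_one' := MulEquiv.ext fun k => Subtype.ext (by simp)
  map_mul' s t := MulEquiv.ext fun k => Subtype.ext (by
    show a (s * t) (k : G) = a s (a t (k : G))
    rw [map_mul]; rfl)

omit [Fintype G] [Finite S] in
theorem restrAut_coe (a : S →* MulAut G) (K : Subgroup G) (hK : ∀ s, ∀ k ∈ K, a s k ∈ K) (s : S)
    (k : K) : ((restrAut a K hK s k : K) : G) = a s (k : G) := rfl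

/-- Without fixed points outside `L`, the section has no fixed linear characters. -/
theorem linHom_eq_one_of_fixed (a : S →* MulAut G) (hcop : (Nat.card G).Coprime (Nat.card S))
    (hsolv : Group.IsSolvable G) {K L : Subgroup G} (hLK : L ≤ K) (hKS : ∀ s, ∀ k ∈ K, a s k ∈ K)
    (hLS : ∀ s, ∀ l ∈ L, a s l ∈ L)
    (hKC : ∀ c ∈ K, (∀ s, a s c = c) → c ∈ L) (f : linHoms (L.subgroupOf K))
    (hf : ∀ s k, f.1 (restrAut a K hKS s k) = f.1 k) : f = 1 := by
  refine linHoms.ext' fun k => ?_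
  let N : Subgroup G := ((linHoms.toHom f).ker).map K.subtype
  obtain ⟨n, hn, hfix⟩ := exists_fixed_in_coset a hcop hsolv N (by
    rintro s _ ⟨x, hx, rfl⟩
    exact ⟨restrAut a K hKS s x, (hf s x).trans hx, rfl⟩) (g := (k : G)) (fun s =>
      ⟨k⁻¹ * restrAut a K hKS s k, by
        show f.1 _ = 1
        rw [linHoms.map_mul, linHoms.map_inv, hf, inv_mul_cancel], rfl⟩)
  obtain ⟨x, hx, rfl⟩ := hn
  have hmem : (k * x : K) ∈ L.subgroupOf K := hKC _ (k * x).2 hfix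
  have h := linHoms.map_of_mem f hmem
  rwa [linHoms.map_mul, show f.1 x = 1 from hx, mul_one] at h

variable (a : S →* MulAut G) (K L H : Subgroup G) [Fintype L] [Fintype H]

theorem invariant_case (hodd : Odd (Nat.card G)) (hcop : (Nat.card G).Coprime (Nat.card S))
    (hsolv : Group.IsSolvable G) (hKn : K.Normal) (hLn : L.Normal) (hLK : L ≤ K) (hLH : L ≤ H)
    (hKS : ∀ s, ∀ k ∈ K, a s k ∈ K) (hLS : ∀ s, ∀ l ∈ L, a s l ∈ L)
    (hab : ∀ x ∈ K, ∀ y ∈ K, x * y * x⁻¹ * y⁻¹ ∈ L)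
    (hH : ∀ h ∈ H, ∃ l ∈ L, ∃ c : G, (∀ s, a s c = c) ∧ h = l * c)
    (hgen : K ⊔ H = ⊤) (hKC : ∀ c ∈ K, (∀ s, a s c = c) → c ∈ L)
    (φ : L → ℂ) (hφ : Cfsg.IsIrrCharacter L φ) (hφG : ∀ g, conjFn hLn φ g = φ)
    (hφS : InvOn a L φ) :
    (∀ χ : Cfsg.IrrCharacter G, (∀ s g, (χ : G → ℂ) (a s g) = (χ : G → ℂ) g) →
      Cfsg.classInner (fun l : L => (χ : G → ℂ) l) φ ≠ 0 →
        ∃! ψ : Cfsg.IrrCharacter H, InvOn a H (ψ : H → ℂ) ∧ OddMult H (χ : G → ℂ) (ψ : H → ℂ)) ∧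
    (∀ χ χ' : Cfsg.IrrCharacter G, (∀ s g, (χ : G → ℂ) (a s g) = (χ : G → ℂ) g) →
      (∀ s g, (χ' : G → ℂ) (a s g) = (χ' : G → ℂ) g) →
      Cfsg.classInner (fun l : L => (χ : G → ℂ) l) φ ≠ 0 →
      Cfsg.classInner (fun l : L => (χ' : G → ℂ) l) φ ≠ 0 →
        ∀ ψ : Cfsg.IrrCharacter H, OddMult H (χ : G → ℂ) (ψ : H → ℂ) →
          OddMult H (χ' : G → ℂ) (ψ : H → ℂ) → χ = χ') ∧
    (∀ ψ : Cfsg.IrrCharacter H, InvOn a H (ψ : H → ℂ) →
      Cfsg.classInner (resTo hLH (ψ : H → ℂ)) φ ≠ 0 →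
        ∃ χ : Cfsg.IrrCharacter G, (∀ s g, (χ : G → ℂ) (a s g) = (χ : G → ℂ) g) ∧
          Cfsg.classInner (fun l : L => (χ : G → ℂ) l) φ ≠ 0 ∧
          OddMult H (χ : G → ℂ) (ψ : H → ℂ)) := by
  classical
  have := hKn
  have := Fintype.ofFinite K
  have := Fintype.ofFinite S
  set L' : Subgroup K := L.subgroupOf K with hL'
  have hL'n : L'.Normal := hLn.subgroupOf K
  have := Fintype.ofFinite L'
  let eL : L' ≃* L := Subgroup.subgroupOfEquivOfLe hLK
  set φ' : L' → ℂ := fun x => φ (eL x) with hφ'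
  have hφ'i : Cfsg.IsIrrCharacter L' φ' := IsIrr.comp_surjective eL.toMonoidHom eL.surjective hφ
  have hab' : ∀ x y : K, x * y * x⁻¹ * y⁻¹ ∈ L' := fun x y => hab x x.2 y y.2
  set aK := restrAut a K hKS with haK
  have haL : ∀ s, ∀ l ∈ L', aK s l ∈ L' := fun s l hl => hLS s _ hl
  have hcopK : (Nat.card K).Coprime (Nat.card S) := hcop.coprime_dvd_left K.card_subgroup_dvd_card
  have hφ's : ∀ s (l : L'), φ' ⟨aK s l, haL s l l.2⟩ = φ' l := fun s l => hφS s _ _ rfl
  have hfix : ∀ f : linHoms L', (∀ s k, f.1 (aK s k) = f.1 k) → f = 1 := fun f hf =>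
    linHom_eq_one_of_fixed a hcop hsolv hLK hKS hLS hKC f hf
  have hφ'K : ∀ k n, φ' (conjIn L' k n) = φ' n := fun k n => by
    refine Eq.trans ?_ (congrFun (hφG (k : G)) (eL n))
    exact congrArg φ (Subtype.ext rfl)
  -- the fixed character over `φ`
  obtain ⟨θ, hθc⟩ := exists_constituent (isClassFunction_indFun L' φ') (fun h => by
    have h1 := congrFun h 1
    rw [indFun_apply_one, Pi.zero_apply, mul_eq_zero] at h1
    rcases h1 with h1 | h1
    · exact Subgroup.index_ne_zero_of_finite (Nat.cast_eq_zero.mp h1)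
    · exact IsIrr.apply_one_ne_zero hφ'i h1)
  rw [frobenius_reciprocity L' φ' (IsIrr.isClassFunction θ.2), ← classInner_conj_symm] at hθc
  obtain ⟨e, -, -, he⟩ := over_of_classInner hφ'i hφ'K θ.2 (fun h => hθc (by rw [h, map_zero]))
  obtain ⟨θ₀, hθ₀, hθ₀s, huniq⟩ := exists_unique_fixed_over aK hab' hφ'i hcopK haL hφ's hfix θ he
  -- it is invariant in `G`
  have hHc : ∀ g : G, ∃ k ∈ K, ∃ c : G, (∀ s, a s c = c) ∧ g = k * c := by
    intro g
    have hg : g ∈ K ⊔ H := by rw [hgen]; exact Subgroup.mem_top g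
    rw [sup_comm] at hg
    obtain ⟨k, hk, h, hh, rfl⟩ := (CfsgLib.Core.mem_sup_iff_mul' Subgroup.le_normalizer_of_normal).mp hg
    obtain ⟨l, hl, c, hc, rfl⟩ := hH h hh
    exact ⟨k * l, K.mul_mem hk (hLK hl), c, hc, (mul_assoc _ _ _).symm⟩
  have hcomm : ∀ (c : G), (∀ s, a s c = c) → ∀ s (k : K), conjIn K c (aK s k) = aK s (conjIn K c k) :=
    fun c hc s k => Subtype.ext (by
      simp only [conjIn_coe, haK, restrAut_coe, map_mul, map_inv, hc])
  have hθ₀G : ∀ g k, (θ₀ : K → ℂ) (conjIn K g k) = (θ₀ : K → ℂ) k := by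
    intro g
    obtain ⟨k₁, hk₁, c, hc, rfl⟩ := hHc g
    have hirr : Cfsg.IsIrrCharacter K (fun k => (θ₀ : K → ℂ) (conjIn K c k)) :=
      IsIrr.comp_surjective (conjIn K c).toMonoidHom (conjIn K c).surjective θ₀.2
    have hmemL : ∀ l : L', conjIn K c (l : K) ∈ L' := fun l => hLn.conj_mem _ l.2 c
    have heq : (⟨_, hirr⟩ : Cfsg.IrrCharacter K) = θ₀ := by
      refine huniq _ ⟨e, fun l => ?_⟩ fun s k => ?_
      · show (θ₀ : K → ℂ) (conjIn K c l) = _
        rw [show conjIn K c (l : K) = ((⟨_, hmemL l⟩ : L') : K) from rfl, hθ₀]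
        congr 1
        exact (congrArg φ (Subtype.ext rfl)).trans (congrFun (hφG c) (eL l))
      · show (θ₀ : K → ℂ) (conjIn K c (aK s k)) = (θ₀ : K → ℂ) (conjIn K c k)
        rw [hcomm c hc, hθ₀s]
    intro k
    refine Eq.trans ?_ (congrFun (congrArg Subtype.val heq) k)
    rw [conjIn, map_mul, MulAut.mul_apply]
    have h1 : MulAut.conjNormal k₁ (MulAut.conjNormal c k) =
        (⟨k₁, hk₁⟩ : K) * conjIn K c k * (⟨k₁, hk₁⟩ : K)⁻¹ :=
      Subtype.ext (by simp [conjIn_coe, MulAut.conjNormal_apply])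
    rw [h1]
    exact IsIrr.isClassFunction θ₀.2 _ _
  -- the representations and the involution
  obtain ⟨n, ρ, hρ, hρc⟩ := θ₀.2
  obtain ⟨nU, σU, hσU, hσUc⟩ := id hφ'i
  have hres : ∀ l : L', ρ.character l = (e : ℂ) * σU.character l := fun l => by
    rw [hρc, hσUc]; exact hθ₀ l
  obtain ⟨J, hJ, hJL, hJK, hJτ⟩ := exists_involution hres hab' aK hcopK haL
    (fun s k => by rw [hρc]; exact hθ₀s s k) hfix
  have hJH : ∀ h ∈ H, ∀ u : (Module.End ℂ (Fin n → ℂ))ˣ,
      (∀ k, (u : Module.End ℂ (Fin n → ℂ)) * ρ k = ρ (conjIn K h k) * u) →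
        (u : Module.End ℂ (Fin n → ℂ)) * J = J * u := by
    intro h hh u hu
    obtain ⟨l, hl, c, hc, rfl⟩ := hH h hh
    let lk : K := ⟨l, hLK hl⟩
    set v := (ρ.toHomUnits lk)⁻¹ * u with hv
    have hvi : Intw ρ (conjIn K c) v := fun k => by
      rw [hv, Units.val_mul, mul_assoc, hu k, Units.inv_mul_eq_iff_eq_mul, ← mul_assoc, ← mul_assoc]
      have h1 : (ρ.toHomUnits lk : Module.End ℂ (Fin n → ℂ)) = ρ lk := rfl
      rw [h1, ← map_mul, show ((ρ.toHomUnits lk)⁻¹ : (Module.End ℂ (Fin n → ℂ))ˣ) =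
        ρ.toHomUnits lk⁻¹ from (map_inv _ _).symm]
      rw [show (ρ.toHomUnits lk⁻¹ : Module.End ℂ (Fin n → ℂ)) = ρ lk⁻¹ from rfl, ← map_mul]
      congr 2
      exact Subtype.ext (by simp [conjIn_coe, lk, mul_assoc])
    have hcomm' : ∀ s, conjIn K c * aK s = aK s * conjIn K c := fun s =>
      MulEquiv.ext fun k => hcomm c hc s k
    have h2 := hJτ (conjIn K c) (orderOf c) (Odd.of_dvd_nat hodd (orderOf_dvd_natCard c))
      (by rw [conjIn, ← map_pow, pow_orderOf_eq_one, map_one])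
      (fun x hx => hLn.conj_mem _ hx c) hcomm' v hvi
    have hu' : u = ρ.toHomUnits lk * v := by rw [hv, mul_inv_cancel_left]
    rw [hu', Units.val_mul, mul_assoc, h2, ← mul_assoc, ← mul_assoc]
    congr 1
    exact (hJL lk (show lk ∈ L' from hl)).symm
  have hLH' : ∀ l ∈ L', ((l : K) : G) ∈ H := fun l hl => hLH hl
  have hHS : ∀ s, ∀ h ∈ H, a s h ∈ H := by
    intro s h hh
    obtain ⟨l, hl, c, hc, rfl⟩ := hH h hh
    rw [map_mul, hc s]
    refine H.mul_mem (hLH (hLS s l hl)) ?_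
    have := H.mul_mem (H.inv_mem (hLH hl)) hh
    rwa [inv_mul_cancel_left] at this
  obtain ⟨hA, hB, hC'⟩ := parity_core K ρ H σU hodd hab' (fun g k => by rw [hρc]; exact hθ₀G g k)
    (fun h hh l hl => hLn.conj_mem _ hl h) hLH'
    (fun k hk => by
      obtain ⟨l, hl, c, hc, hlc⟩ := hH _ hk
      have hcK : c ∈ K := by
        have := K.mul_mem (K.inv_mem (hLK hl)) k.2
        rwa [hlc, inv_mul_cancel_left] at this
      show (k : G) ∈ L
      rw [hlc]
      exact L.mul_mem hl (hKC c hcK hc))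
    hgen J hJ hJL hJK hJH hres
  -- characters over `φ` fixed by `S` lie over `θ₀`
  have hOver : ∀ χ : Cfsg.IrrCharacter G, (∀ s g, (χ : G → ℂ) (a s g) = (χ : G → ℂ) g) →
      Cfsg.classInner (fun l : L => (χ : G → ℂ) l) φ ≠ 0 → Over K ρ (χ : G → ℂ) := by
    intro χ hχ hc
    have := Fintype.ofFinite (Cfsg.IrrCharacter K)
    rw [classInner_resTo_restrict (T := K) hLK (IsIrr.isCharacter χ.2)] at hc
    obtain ⟨θ₁, -, hθ₁⟩ := Finset.exists_ne_zero_of_sum_ne_zero hc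
    have hθ₁χ := left_ne_zero_of_mul hθ₁
    have hθ₁φ : ∃ e₁ : ℕ, ∀ l : L', (θ₁ : K → ℂ) l = (e₁ : ℂ) * φ' l := by
      obtain ⟨e₁, -, -, h1⟩ := over_of_classInner hφ'i hφ'K θ₁.2 (by
        have h2 := classInner_comp_equiv eL (fun l : L => (θ₁ : K → ℂ) ⟨l, hLK l.2⟩) φ
        intro h0
        exact right_ne_zero_of_mul hθ₁ (h2.symm.trans h0))
      exact ⟨e₁, h1⟩
    have hsum := restrict_eq_smul_orbit_sum hKn χ.2 θ₁.2 hθ₁χ
    have hstep : ∀ s, ∃ c : G, (∀ t, a t c = c) ∧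
        (fun k => (θ₁ : K → ℂ) (aK s k)) = conjFn hKn (θ₁ : K → ℂ) c := by
      intro s
      let η : Cfsg.IrrCharacter K :=
        ⟨_, IsIrr.comp_surjective (aK s).toMonoidHom (aK s).surjective θ₁.2⟩
      have hη : Cfsg.classInner (fun k : K => (χ : G → ℂ) k) (η : K → ℂ) ≠ 0 := by
        have h1 := classInner_comp_equiv (aK s) (fun k : K => (χ : G → ℂ) k) (θ₁ : K → ℂ)
        rw [show (fun k : K => (χ : G → ℂ) ((aK s k : K) : G)) = fun k : K => (χ : G → ℂ) k from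
          funext fun k => hχ s k] at h1
        exact fun h0 => hθ₁χ (h1.symm.trans h0)
      rw [hsum, classInner_smul_left, classInner_sum_left] at hη
      obtain ⟨ω, hω, hω'⟩ := Finset.exists_ne_zero_of_sum_ne_zero (right_ne_zero_of_mul hη)
      obtain ⟨g, -, rfl⟩ := Finset.mem_image.mp hω
      rw [← classInner_conj_symm, classInner_irr_conjFn hKn η.2 θ₁.2 g, ne_eq, map_eq_zero] at hω'
      obtain ⟨k, hk, c, hc, rfl⟩ := hHc g
      refine ⟨c, hc, ?_⟩
      rw [conjFn_mul, le_inertia hKn (IsIrr.isClassFunction θ₁.2) hk] at hω'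
      by_contra hne
      exact hω' (if_neg fun h => hne h)
    have hfixed : ∀ s k, (θ₁ : K → ℂ) (aK s k) = (θ₁ : K → ℂ) k := by
      intro s
      obtain ⟨c, hc, hsc⟩ := hstep s
      have hpow : ∀ i : ℕ, ∀ k, (θ₁ : K → ℂ) (aK (s ^ i) k) = (θ₁ : K → ℂ) (conjIn K (c ^ i) k) := by
        intro i
        induction i with
        | zero => intro k; simp [conjIn]
        | succ i ih =>
          intro k
          rw [pow_succ, map_mul, MulAut.mul_apply, ih, hcomm _ (fun t => by rw [map_pow, hc t]),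
            congrFun hsc]
          refine congrArg (θ₁ : K → ℂ) (Subtype.ext ?_)
          show c * ((conjIn K (c ^ i) k : K) : G) * c⁻¹ = _
          rw [conjIn_coe, conjIn_coe, pow_succ']
          group
      have hcN : c ^ Nat.card S ∈ inertia hKn (θ₁ : K → ℂ) := funext fun k => by
        refine Eq.trans ?_ ((hpow (Nat.card S) k).symm.trans (by
          rw [pow_card_eq_one', map_one, MulAut.one_apply]))
        exact congrArg (θ₁ : K → ℂ) (Subtype.ext (conjIn_coe K _ k).symm)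
      obtain ⟨j, hj⟩ := exists_pow_eq_self_of_coprime
        ((hcop.symm.coprime_dvd_right (orderOf_dvd_natCard c)))
      have hcI : c ∈ inertia hKn (θ₁ : K → ℂ) := hj ▸ pow_mem hcN j
      intro k
      exact (congrFun hsc k).trans (congrFun hcI k)
    have := huniq θ₁ hθ₁φ hfixed
    subst this
    obtain ⟨m, -, -, hm⟩ := over_of_classInner θ₁.2 hθ₀G χ.2 hθ₁χ
    exact ⟨m, fun k => by rw [hρc]; exact hm k⟩
  -- translations of `ψ`
  set aH := restrAut a H hHS with haH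
  have hinvψ : ∀ (χ : Cfsg.IrrCharacter G) (ψ : Cfsg.IrrCharacter H) s,
      OddMult H (χ : G → ℂ) (ψ : H → ℂ) → (∀ g, (χ : G → ℂ) (a s g) = (χ : G → ℂ) g) →
        OddMult H (χ : G → ℂ) (fun h => (ψ : H → ℂ) (aH s h)) := by
    rintro χ ψ s ⟨m, hm, hm'⟩ hχ
    refine ⟨m, ?_, hm'⟩
    rw [← hm, ← classInner_comp_equiv (aH s) (fun h : H => (χ : G → ℂ) h) (ψ : H → ℂ)]
    congr 1
    exact funext fun h => (hχ h).symm
  refine ⟨fun χ hχ hc => ?_, fun χ χ' hχ hχ' hc hc' ψ h1 h2 =>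
    hB χ χ' (hOver χ hχ hc) (hOver χ' hχ' hc') ψ h1 h2, fun ψ hψ hc => ?_⟩
  · obtain ⟨ψ, hψ, hu⟩ := hA χ (hOver χ hχ hc)
    refine ⟨ψ, ⟨fun s h h' hh' => ?_, hψ⟩, fun ψ' hψ' => hu ψ' hψ'.2⟩
    have h1 := hu ⟨_, IsIrr.comp_surjective (aH s).toMonoidHom (aH s).surjective ψ.2⟩
      (hinvψ χ ψ s hψ (hχ s))
    rw [show h' = aH s h from Subtype.ext hh']
    exact congrFun (congrArg Subtype.val h1) h
  · obtain ⟨m, hm⟩ := IsChar.classInner_eq_natCast (isCharacter_resTo hLH (IsIrr.isCharacter ψ.2))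
      (IsIrr.isCharacter hφ)
    have hψL := resTo_eq_smul hLn hLH hφ (fun t _ => hφG t) ψ.2 hc
    rw [hm] at hψL
    obtain ⟨χ, ⟨i, hi⟩, hodd'⟩ := hC' ψ m (fun l => by
      rw [hσUc]; exact congrFun hψL (eL l))
    have hinv : ∀ s g, (χ : G → ℂ) (a s g) = (χ : G → ℂ) g := by
      intro s
      let χs : Cfsg.IrrCharacter G :=
        ⟨_, IsIrr.comp_surjective (a s).toMonoidHom (a s).surjective χ.2⟩
      have hoverS : Over K ρ (χs : G → ℂ) := ⟨i, fun k => by
        show (χ : G → ℂ) (a s k) = _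
        rw [show a s (k : G) = ((aK s k : K) : G) from rfl, hi, hρc, hθ₀s]⟩
      obtain ⟨j, hj, hj'⟩ := hodd'
      have hoddS : OddMult H (χs : G → ℂ) (ψ : H → ℂ) := by
        refine ⟨j, ?_, hj'⟩
        rw [← hj, ← classInner_comp_equiv (aH s) (fun h : H => (χ : G → ℂ) h) (ψ : H → ℂ)]
        congr 1
        exact funext fun h => (hψ s h (aH s h) rfl).symm
      intro g
      exact congrFun (congrArg Subtype.val (hB χs χ hoverS ⟨i, hi⟩ ψ hoddS ⟨j, hj, hj'⟩)) g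
    refine ⟨χ, hinv, ?_, hodd'⟩
    have hχL : (fun l : L => (χ : G → ℂ) l) = ((i : ℂ) * e) • φ := by
      funext l
      obtain ⟨x, rfl⟩ := eL.surjective l
      show (χ : G → ℂ) ((x : K) : G) = _
      rw [hi, hres, hσUc, Pi.smul_apply, smul_eq_mul, mul_assoc]
    rw [hχL, classInner_smul_left, show Cfsg.classInner φ φ = 1 from classInner_irr_self ⟨φ, hφ⟩, mul_one]
    intro h0
    refine IsIrr.apply_one_ne_zero χ.2 ?_
    have h1 := congrFun hχL 1
    rw [h0, zero_smul] at h1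
    exact h1

end CfsgLib.Char.OddSection
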