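import Cfsg.Agent.Lib.Char.Equiv
import Mathlib.LinearAlgebra.Pi

/-!
# Isotypic representations: the commutant and the double commutant

For an irreducible `φ` of a finite group `M` on `U` the operators `φ g` span `End U`; a
representation with character a multiple of that of `φ` is a power of `φ`, whence a map of
algebras `End U → End V`, the double commutant, and the triviality of invariant subspaces.
-/

set_option autoImplicit false
set_option linter.all false

namespace CfsgLib.Char.OddSection

open Module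

variable {M : Type*} [Group M] [Finite M] {U : Type*} [AddCommGroup U] [Module ℂ U]
  [FiniteDimensional ℂ U] (φ : Representation ℂ M U)

/-- Burnside's theorem on irreducible representations. -/
theorem span_range_eq_top [φ.IsIrreducible] :
    Submodule.span ℂ (Set.range φ) = (⊤ : Submodule ℂ (Module.End ℂ U)) := by
  classical
  have := Fintype.ofFinite M
  set P := Submodule.span ℂ (Set.range φ) with hP
  have hd : (finrank ℂ U : ℂ) ≠ 0 := Nat.cast_ne_zero.mpr (finrank_pos_of_irreducible φ).ne'
  have hG : (Fintype.card M : ℂ) ≠ 0 := Nat.cast_ne_zero.mpr Fintype.card_ne_zero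
  have rank1 : ∀ (f : U →ₗ[ℂ] ℂ) (v : U), f.smulRight v ∈ P := by
    intro f v
    set r : ℂ := (Fintype.card M : ℂ) / (finrank ℂ U : ℂ) with hr
    have key : ∑ g, f (φ g⁻¹ v) • φ g = r • f.smulRight v := by
      refine LinearMap.ext fun w => ?_
      set y : Module.End ℂ U := f.smulRight w with hy
      obtain ⟨c, hc⟩ := exists_eq_smul_of_commute φ (∑ g, φ g * y * φ g⁻¹) (fun h => by
        rw [Finset.sum_mul, Finset.mul_sum]
        refine Fintype.sum_equiv (Equiv.mulLeft h⁻¹) _ _ fun g => ?_
        simp only [Equiv.coe_mulLeft, mul_inv_rev, inv_inv]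
        rw [show φ h * (φ (h⁻¹ * g) * y * φ (g⁻¹ * h)) = φ h * φ (h⁻¹ * g) * y * φ (g⁻¹ * h) by
          simp only [mul_assoc], ← map_mul, mul_inv_cancel_left, map_mul φ g⁻¹ h]
        simp only [mul_assoc])
      have htr := congrArg (LinearMap.trace ℂ U) hc
      rw [map_sum, map_smul, LinearMap.trace_id, smul_eq_mul] at htr
      have hterm : ∀ g, LinearMap.trace ℂ U (φ g * y * φ g⁻¹) = f w := fun g => by
        rw [LinearMap.trace_mul_comm, ← mul_assoc, ← map_mul, inv_mul_cancel, map_one, one_mul, hy,
          LinearMap.trace_smulRight]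
      rw [Finset.sum_congr rfl fun g _ => hterm g, Finset.sum_const, Finset.card_univ,
        nsmul_eq_mul] at htr
      have hcr : c = r * f w := by
        rw [hr]
        field_simp
        linear_combination -htr
      have h2 := LinearMap.congr_fun hc v
      simp only [LinearMap.coe_sum, Finset.sum_apply, LinearMap.smul_apply, LinearMap.id_coe,
        id_eq, Module.End.mul_apply, hy, LinearMap.smulRight_apply, map_smul] at h2
      simp only [LinearMap.coe_sum, Finset.sum_apply, LinearMap.smul_apply,
        LinearMap.smulRight_apply, h2, hcr, smul_smul]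
    have hr0 : r ≠ 0 := div_ne_zero hG hd
    have hm : ∑ g, f (φ g⁻¹ v) • φ g ∈ P :=
      Submodule.sum_mem _ fun g _ => Submodule.smul_mem _ _ (Submodule.subset_span ⟨g, rfl⟩)
    rw [key] at hm
    simpa [smul_smul, inv_mul_cancel₀ hr0] using P.smul_mem r⁻¹ hm
  refine eq_top_iff.mpr fun x _ => ?_
  let b := finBasis ℂ U
  have hx : x = ∑ i, (b.coord i).smulRight (x (b i)) := by
    refine LinearMap.ext fun u => ?_
    simp only [LinearMap.coe_sum, Finset.sum_apply, LinearMap.smulRight_apply, Basis.coord_apply,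
      ← map_smul, ← map_sum, b.sum_repr]
  rw [hx]
  exact Submodule.sum_mem _ fun i _ => rank1 _ _

/-- Operators acting on each coordinate. -/
noncomputable def coordwise (m : ℕ) : Module.End ℂ U →ₐ[ℂ] Module.End ℂ (Fin m → U) where
  toFun T := T.compLeft (Fin m)
  map_one' := rfl
  map_mul' _ _ := rfl
  map_zero' := rfl
  map_add' _ _ := rfl
  commutes' c := LinearMap.ext fun v => funext fun i => rfl

@[simp]
theorem coordwise_apply (m : ℕ) (T : Module.End ℂ U) (v : Fin m → U) (i : Fin m) :
    coordwise m T v i = T (v i) := rfl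

theorem trace_coordwise (m : ℕ) (T : Module.End ℂ U) :
    LinearMap.trace ℂ (Fin m → U) (coordwise m T) = (m : ℂ) * LinearMap.trace ℂ U T := by
  have h : coordwise m T = ∑ i, (LinearMap.single ℂ (fun _ : Fin m => U) i) ∘ₗ
      (T ∘ₗ LinearMap.proj i) := by
    refine LinearMap.ext fun v => funext fun j => ?_
    simp [Pi.single_apply]
  rw [h, map_sum]
  refine Eq.trans (Finset.sum_congr rfl fun i _ => ?_) (by rw [Finset.sum_const, Finset.card_univ,
    Fintype.card_fin, nsmul_eq_mul])
  rw [LinearMap.trace_comp_comm']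
  congr 1
  exact LinearMap.ext fun u => by simp

/-- The `m`-th power of a representation. -/
noncomputable def powRep (m : ℕ) : Representation ℂ M (Fin m → U) :=
  ((coordwise (U := U) m : Module.End ℂ U →* Module.End ℂ (Fin m → U))).comp φ

theorem powRep_apply (m : ℕ) (g : M) : powRep φ m g = coordwise m (φ g) := rfl

/-- The matrix units in the commutant of a power. -/
noncomputable def unitMap (m : ℕ) (i j : Fin m) : Module.End ℂ (Fin m → U) :=
  (LinearMap.single ℂ (fun _ : Fin m => U) i) ∘ₗ LinearMap.proj j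

theorem unitMap_comm (m : ℕ) (i j : Fin m) (T : Module.End ℂ U) :
    unitMap m i j * coordwise m T = coordwise m T * unitMap m i j := by
  refine LinearMap.ext fun v => funext fun k => ?_
  simp [unitMap, Pi.single_apply, apply_ite T]

variable {V : Type*} [AddCommGroup V] [Module ℂ V] [FiniteDimensional ℂ V]
  (σ : Representation ℂ M V) {m : ℕ}

theorem exists_powEquiv (h : ∀ g, σ.character g = (m : ℂ) * φ.character g) :
    ∃ e : (Fin m → U) ≃ₗ[ℂ] V, ∀ g, e.conj (coordwise m (φ g)) = σ g := by
  obtain ⟨E⟩ := nonempty_equiv_of_character_eq (powRep φ m) σ (funext fun g => by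
    rw [Representation.character, powRep_apply, trace_coordwise, h]; rfl)
  refine ⟨E.toLinearEquiv, fun g => ?_⟩
  exact E.conj_apply_self g

theorem exists_algHom (h : ∀ g, σ.character g = (m : ℂ) * φ.character g) :
    ∃ Φ : Module.End ℂ U →ₐ[ℂ] Module.End ℂ V, ∀ g, Φ (φ g) = σ g := by
  obtain ⟨e, he⟩ := exists_powEquiv φ σ h
  exact ⟨(e.conjAlgEquiv ℂ).toAlgHom.comp (coordwise m), he⟩

/-- The double commutant. -/
theorem mem_span_of_commute [φ.IsIrreducible] (h : ∀ g, σ.character g = (m : ℂ) * φ.character g)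
    {z : Module.End ℂ V}
    (hz : ∀ x : Module.End ℂ V, (∀ g, x * σ g = σ g * x) → z * x = x * z) :
    z ∈ Submodule.span ℂ (Set.range σ) := by
  obtain ⟨e, he⟩ := exists_powEquiv φ σ h
  rcases Nat.eq_zero_or_pos m with hm | hm
  · subst hm
    have : Subsingleton V := e.symm.injective.subsingleton
    rw [Subsingleton.elim z 0]
    exact zero_mem _
  let i0 : Fin m := ⟨0, hm⟩
  set z' : Module.End ℂ (Fin m → U) := (e.symm.conjAlgEquiv ℂ) z with hz'
  have hcomm : ∀ i j, z' * unitMap m i j = unitMap m i j * z' := by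
    intro i j
    have h1 := hz ((e.conjAlgEquiv ℂ) (unitMap m i j)) (fun g => by
      rw [← he g]
      show (e.conjAlgEquiv ℂ) _ * (e.conjAlgEquiv ℂ) _ = (e.conjAlgEquiv ℂ) _ * (e.conjAlgEquiv ℂ) _
      rw [← map_mul, ← map_mul, unitMap_comm])
    apply (e.conjAlgEquiv ℂ).injective
    rw [map_mul, map_mul]
    have h2 : (e.conjAlgEquiv ℂ) z' = z := LinearMap.ext fun v => by simp [hz']
    rw [h2]
    exact h1
  set t : Module.End ℂ U :=
    (LinearMap.proj i0) ∘ₗ z' ∘ₗ (LinearMap.single ℂ (fun _ : Fin m => U) i0) with ht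
  have hzt : z' = coordwise m t := by
    refine LinearMap.pi_ext fun j u => ?_
    have h1 := LinearMap.congr_fun (hcomm j i0) (Pi.single i0 u)
    simp only [Module.End.mul_apply, unitMap, LinearMap.comp_apply, LinearMap.proj_apply,
      LinearMap.single_apply, Pi.single_eq_same] at h1
    rw [h1]
    funext k
    by_cases hkj : k = j <;> simp [ht, Pi.single_apply, hkj]
  have hfull : ∀ T : Module.End ℂ U, (e.conjAlgEquiv ℂ) (coordwise m T) ∈
      Submodule.span ℂ (Set.range σ) := by
    intro T
    have hT : T ∈ Submodule.span ℂ (Set.range φ) := by rw [span_range_eq_top]; trivial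
    induction hT using Submodule.span_induction with
    | mem x hx =>
      obtain ⟨g, rfl⟩ := hx
      exact Submodule.subset_span ⟨g, (he g).symm⟩
    | zero => simp
    | add a b _ _ ha hb => rw [map_add, map_add]; exact add_mem ha hb
    | smul c a _ ha => rw [map_smul, map_smul]; exact Submodule.smul_mem _ _ ha
  have h3 : z = (e.conjAlgEquiv ℂ) (coordwise m t) := by
    rw [← hzt, hz']
    exact LinearMap.ext fun v => by simp
  rw [h3]
  exact hfull t

/-- The centre of the commutant consists of the scalars. -/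
theorem exists_smul_of_commute [φ.IsIrreducible]
    (h : ∀ g, σ.character g = (m : ℂ) * φ.character g) {z : Module.End ℂ V}
    (hzσ : ∀ g, z * σ g = σ g * z)
    (hz : ∀ x : Module.End ℂ V, (∀ g, x * σ g = σ g * x) → z * x = x * z) :
    ∃ c : ℂ, z = c • 1 := by
  obtain ⟨e, he⟩ := exists_powEquiv φ σ h
  rcases Nat.eq_zero_or_pos m with hm | hm
  · subst hm
    have : Subsingleton V := e.symm.injective.subsingleton
    exact ⟨0, Subsingleton.elim _ _⟩
  let i0 : Fin m := ⟨0, hm⟩
  set Φ : Module.End ℂ U →ₐ[ℂ] Module.End ℂ V := (e.conjAlgEquiv ℂ).toAlgHom.comp (coordwise m) with hΦ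
  have hΦg : ∀ g, Φ (φ g) = σ g := he
  obtain ⟨t, ht⟩ : ∃ t, Φ t = z := by
    have hz2 := mem_span_of_commute φ σ h hz
    clear hzσ hz
    induction hz2 using Submodule.span_induction with
    | mem x hx =>
      obtain ⟨g, rfl⟩ := hx
      exact ⟨φ g, hΦg g⟩
    | zero => exact ⟨0, map_zero _⟩
    | add a b _ _ ha hb =>
      obtain ⟨s, rfl⟩ := ha
      obtain ⟨t, rfl⟩ := hb
      exact ⟨s + t, map_add _ _ _⟩
    | smul c a _ ha =>
      obtain ⟨t, rfl⟩ := ha
      exact ⟨c • t, map_smul _ _ _⟩
  have := Fintype.ofFinite M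
  have hinj : Function.Injective Φ := fun a b hab => LinearMap.ext fun u => by
    have h1 := LinearMap.congr_fun ((e.conjAlgEquiv ℂ).injective hab) (Pi.single i0 u)
    simpa using congrFun h1 i0
  obtain ⟨c, hc⟩ := exists_eq_smul_of_commute φ t fun g => hinj (by
    rw [map_mul, map_mul, hΦg, ht, hzσ])
  refine ⟨c, ?_⟩
  rw [← ht, hc, show (LinearMap.id : Module.End ℂ U) = 1 from rfl, map_smul, map_one]

/-- A subspace invariant under the group and the commutant is trivial. -/
theorem eq_bot_or_eq_top_of_invariant [hφ : φ.IsIrreducible]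
    (h : ∀ g, σ.character g = (m : ℂ) * φ.character g) (W : Submodule ℂ V)
    (hW : ∀ g, ∀ v ∈ W, σ g v ∈ W)
    (hW' : ∀ x : Module.End ℂ V, (∀ g, x * σ g = σ g * x) → ∀ v ∈ W, x v ∈ W) :
    W = ⊥ ∨ W = ⊤ := by
  classical
  obtain ⟨e, he⟩ := exists_powEquiv φ σ h
  by_cases hb : W = ⊥
  · exact Or.inl hb
  refine Or.inr ?_
  obtain ⟨v, hv, hv0⟩ := Submodule.exists_mem_ne_zero_of_ne_bot hb
  obtain ⟨j, hj⟩ : ∃ j, e.symm v j ≠ 0 := by
    by_contra hno
    push Not at hno
    exact hv0 (e.symm.map_eq_zero_iff.mp (funext hno))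
  have hE : ∀ i k, ∀ w : Fin m → U, e w ∈ W → e (unitMap m i k w) ∈ W := by
    intro i k w hw
    have h1 := hW' ((e.conjAlgEquiv ℂ) (unitMap m i k)) (fun g => by
      rw [← he g]
      show (e.conjAlgEquiv ℂ) _ * (e.conjAlgEquiv ℂ) _ = (e.conjAlgEquiv ℂ) _ * (e.conjAlgEquiv ℂ) _
      rw [← map_mul, ← map_mul, unitMap_comm]) (e w) hw
    simpa using h1
  let S : Subrepresentation φ :=
    { toSubmodule := W.comap (e.toLinearMap ∘ₗ LinearMap.single ℂ (fun _ : Fin m => U) j)
      apply_mem_toSubmodule := fun g u hu => by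
        have h1 := hW g _ hu
        rw [← he g] at h1
        have h2 : e (coordwise m (φ g) (Pi.single j u)) ∈ W := by simpa using h1
        have h3 : coordwise m (φ g) (Pi.single j u) = Pi.single j (φ g u) := by
          funext k
          simp [Pi.single_apply, apply_ite (φ g)]
        rw [h3] at h2
        exact h2 }
  have hS : S.toSubmodule = ⊤ := by
    rcases hφ.eq_bot_or_eq_top S with hS | hS
    · exfalso
      have h1 : e.symm v j ∈ S.toSubmodule := by
        have h2 := hE j j (e.symm v) (by simpa using hv)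
        show e (Pi.single j (e.symm v j)) ∈ W
        simpa [unitMap] using h2
      rw [hS] at h1
      exact hj ((Submodule.mem_bot ℂ).mp h1)
    · rw [hS]; rfl
  refine eq_top_iff.mpr fun w _ => ?_
  have hw : w = ∑ i, e (unitMap m i j (Pi.single j (e.symm w i))) := by
    conv_lhs => rw [← e.apply_symm_apply w, ← Finset.univ_sum_single (e.symm w)]
    simp [unitMap]
  rw [hw]
  refine Submodule.sum_mem _ fun i _ => hE i j _ ?_
  have : e.symm w i ∈ S.toSubmodule := by rw [hS]; trivial
  exact this

end CfsgLib.Char.OddSection
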