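import Cfsg.Agent.Lib.Char.Basic
import Mathlib.GroupTheory.FiniteAbelian.Duality
import Mathlib.GroupTheory.QuotientGroup.Basic
import Mathlib.RingTheory.RootsOfUnity.AlgebraicallyClosed

/-!
# Linear characters of an abelian section and the projections they define
-/

set_option autoImplicit false
set_option linter.all false

namespace CfsgLib.Char.OddSection

open Module

variable {K : Type*} [Group K]

/-- The linear characters trivial on `L`, inside the group of functions `K → ℂˣ`. -/
def linHoms (L : Subgroup K) : Subgroup (K → ℂˣ) where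
  carrier := {f | (∀ a b, f (a * b) = f a * f b) ∧ ∀ l ∈ L, f l = 1}
  one_mem' := ⟨fun a b => (mul_one 1).symm, fun l _ => rfl⟩
  mul_mem' {f g} hf hg := ⟨fun a b => by simp only [Pi.mul_apply, hf.1, hg.1, mul_mul_mul_comm],
    fun l hl => by simp only [Pi.mul_apply, hf.2 l hl, hg.2 l hl, mul_one]⟩
  inv_mem' {f} hf := ⟨fun a b => by simp only [Pi.inv_apply, hf.1, mul_inv],
    fun l hl => by simp only [Pi.inv_apply, hf.2 l hl, inv_one]⟩

variable {L : Subgroup K}

theorem linHoms.map_mul (f : linHoms L) (a b : K) : f.1 (a * b) = f.1 a * f.1 b := f.2.1 a b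

theorem linHoms.map_of_mem (f : linHoms L) {l : K} (hl : l ∈ L) : f.1 l = 1 := f.2.2 l hl

theorem linHoms.map_one (f : linHoms L) : f.1 1 = 1 := f.2.2 1 L.one_mem

theorem linHoms.map_inv (f : linHoms L) (a : K) : f.1 a⁻¹ = (f.1 a)⁻¹ := by
  apply eq_inv_of_mul_eq_one_left
  rw [← linHoms.map_mul, inv_mul_cancel, linHoms.map_one]

/-- A linear character as a homomorphism. -/
def linHoms.toHom (f : linHoms L) : K →* ℂˣ where
  toFun := f.1
  map_one' := linHoms.map_one f
  map_mul' := f.2.1

theorem linHoms.ext' {f g : linHoms L} (h : ∀ k, f.1 k = g.1 k) : f = g := Subtype.ext (funext h)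

variable [Finite K]

theorem linHoms.pow_card (f : linHoms L) : f ^ Nat.card K = 1 := by
  refine linHoms.ext' fun k => ?_
  have h := (linHoms.toHom f).map_pow k (Nat.card K)
  rw [pow_card_eq_one', (linHoms.toHom f).map_one] at h
  rw [SubmonoidClass.coe_pow, Pi.pow_apply]
  exact h.symm

instance linHoms.finite : Finite (linHoms L) := by
  have : NeZero (Nat.card K) := ⟨Nat.card_pos.ne'⟩
  refine Finite.of_injective (fun f : linHoms L => fun k =>
    (⟨f.1 k, ?_⟩ : rootsOfUnity (Nat.card K) ℂ)) fun f g h =>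
      linHoms.ext' fun k => congrArg Subtype.val (congrFun h k)
  rw [mem_rootsOfUnity]
  have h := congrArg (fun x : linHoms L => x.1 k) (linHoms.pow_card f)
  simpa using h

variable [hLn : L.Normal]

theorem exists_linHom_ne_one (hab : ∀ a b : K, a * b * a⁻¹ * b⁻¹ ∈ L) {k : K} (hk : k ∉ L) :
    ∃ f : linHoms L, f.1 k ≠ 1 := by
  letI : CommGroup (K ⧸ L) :=
    { (inferInstance : Group (K ⧸ L)) with
      mul_comm := by
        intro x y
        induction x using QuotientGroup.induction_on with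
        | H a =>
          induction y using QuotientGroup.induction_on with
          | H b =>
            rw [← QuotientGroup.mk_mul, ← QuotientGroup.mk_mul, QuotientGroup.eq]
            simpa [mul_assoc] using hab b⁻¹ a⁻¹ }
  have : NeZero (Monoid.exponent (K ⧸ L)) := ⟨Monoid.ExponentExists.exponent_ne_zero
    Monoid.ExponentExists.of_finite⟩
  have hk1 : (k : K ⧸ L) ≠ 1 := fun h => hk ((QuotientGroup.eq_one_iff k).mp h)
  obtain ⟨f, hf⟩ := CommGroup.exists_apply_ne_one_of_hasEnoughRootsOfUnity (K ⧸ L) ℂ hk1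
  exact ⟨⟨fun a => f a, fun a b => (congrArg f (QuotientGroup.mk_mul L a b)).trans (f.map_mul _ _),
    fun l hl => (congrArg f ((QuotientGroup.eq_one_iff l).mpr hl)).trans f.map_one⟩, hf⟩

theorem sum_linHom_apply [Fintype K] (f : linHoms L) (hf : f ≠ 1) :
    ∑ k, (f.1 k : ℂ) = 0 := by
  obtain ⟨a, ha⟩ : ∃ a, f.1 a ≠ 1 := by
    by_contra h
    push Not at h
    exact hf (linHoms.ext' h)
  have h : (f.1 a : ℂ) * ∑ k, (f.1 k : ℂ) = ∑ k, (f.1 k : ℂ) := by
    rw [Finset.mul_sum]
    exact Fintype.sum_equiv (Equiv.mulLeft a) _ _ fun k => by simp [linHoms.map_mul]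
  by_contra hs
  exact ha (Units.ext (mul_right_cancel₀ hs (h.trans (one_mul _).symm)))

variable {W : Type*} [AddCommGroup W] [Module ℂ W] (A : Representation ℂ K W)

/-- The projection belonging to a linear character. -/
noncomputable def proj [Fintype K] (f : linHoms L) : Module.End ℂ W :=
  (Fintype.card K : ℂ)⁻¹ • ∑ k, (((f.1 k)⁻¹ : ℂˣ) : ℂ) • A k

/-- The projection onto the fixed points of `L`. -/
noncomputable def projSub (L : Subgroup K) [Fintype L] : Module.End ℂ W :=
  (Fintype.card L : ℂ)⁻¹ • ∑ l : L, A l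

theorem apply_mul_proj [Fintype K] (f : linHoms L) (a : K) :
    A a * proj A f = (f.1 a : ℂ) • proj A f := by
  rw [proj, mul_smul_comm, smul_comm, Finset.mul_sum, Finset.smul_sum (r := (f.1 a : ℂ))]
  congr 1
  refine Fintype.sum_equiv (Equiv.mulLeft a) _ _ fun k => ?_
  rw [mul_smul_comm, smul_smul, Equiv.coe_mulLeft, linHoms.map_mul, ← _root_.map_mul]
  congr 1
  rw [mul_inv, Units.val_mul, ← mul_assoc, Units.mul_inv, one_mul]

theorem proj_mul_apply [Fintype K] (f : linHoms L) (a : K) :
    proj A f * A a = (f.1 a : ℂ) • proj A f := by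
  rw [proj, smul_mul_assoc, smul_comm, Finset.sum_mul, Finset.smul_sum (r := (f.1 a : ℂ))]
  congr 1
  refine Fintype.sum_equiv (Equiv.mulRight a) _ _ fun k => ?_
  rw [smul_mul_assoc, smul_smul, Equiv.coe_mulRight, linHoms.map_mul, ← _root_.map_mul]
  congr 1
  rw [mul_inv, Units.val_mul, mul_left_comm, Units.mul_inv, mul_one]

open scoped Classical in
theorem proj_mul_proj [Fintype K] (f g : linHoms L) :
    proj A f * proj A g = if f = g then proj A f else 0 := by
  conv_lhs => rw [proj]
  rw [smul_mul_assoc, Finset.sum_mul]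
  simp only [smul_mul_assoc, apply_mul_proj, smul_smul, ← Finset.sum_smul]
  have h : ∀ k, (((f.1 k)⁻¹ : ℂˣ) : ℂ) * (g.1 k : ℂ) = ((f⁻¹ * g).1 k : ℂ) := fun k => by simp
  simp only [h]
  split_ifs with hfg
  · subst hfg
    simp only [inv_mul_cancel, OneMemClass.coe_one, Pi.one_apply, Units.val_one, Finset.sum_const,
      Finset.card_univ, nsmul_eq_mul, mul_one]
    rw [inv_mul_cancel₀ (Nat.cast_ne_zero.mpr Fintype.card_ne_zero), one_smul]
  · rw [sum_linHom_apply _ (fun h1 => hfg (inv_mul_eq_one.mp h1)), mul_zero, zero_smul]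

theorem sum_proj [Fintype K] [Fintype L] [Fintype (linHoms L)]
    (hab : ∀ a b : K, a * b * a⁻¹ * b⁻¹ ∈ L) :
    ∑ f : linHoms L, proj A f = projSub A L := by
  classical
  have hs : ∀ k, ∑ f : linHoms L, (((f.1 k)⁻¹ : ℂˣ) : ℂ) =
      if k ∈ L then (Fintype.card (linHoms L) : ℂ) else 0 := by
    intro k
    split_ifs with hk
    · simp [linHoms.map_of_mem _ hk]
    · obtain ⟨g, hg⟩ := exists_linHom_ne_one hab hk
      have h : (((g.1 k)⁻¹ : ℂˣ) : ℂ) * ∑ f : linHoms L, (((f.1 k)⁻¹ : ℂˣ) : ℂ) =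
          ∑ f : linHoms L, (((f.1 k)⁻¹ : ℂˣ) : ℂ) := by
        rw [Finset.mul_sum]
        refine Fintype.sum_equiv (Equiv.mulLeft g) _ _ fun f => ?_
        simp [mul_comm]
      by_contra hne
      exact hg (inv_eq_one.mp (Units.ext (mul_right_cancel₀ hne (h.trans (one_mul _).symm))))
  have hcard : (Fintype.card (linHoms L) : ℂ) * (Fintype.card L : ℂ) = Fintype.card K := by
    have h1 : ∑ f : linHoms L, ∑ k, (((f.1 k)⁻¹ : ℂˣ) : ℂ) = Fintype.card K := by
      rw [Finset.sum_eq_single (1 : linHoms L)]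
      · simp
      · intro f _ hf
        exact sum_linHom_apply f⁻¹ (inv_ne_one.mpr hf)
      · simp
    rw [Finset.sum_comm] at h1
    simp only [hs, Finset.sum_ite, Finset.sum_const, nsmul_zero, add_zero, nsmul_eq_mul] at h1
    rw [← h1, Fintype.card_subtype (fun k => k ∈ L)]
    ring
  have hK : (Fintype.card K : ℂ) ≠ 0 := Nat.cast_ne_zero.mpr Fintype.card_ne_zero
  have hL : (Fintype.card L : ℂ) ≠ 0 := Nat.cast_ne_zero.mpr Fintype.card_ne_zero
  simp only [proj, ← Finset.smul_sum, projSub]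
  rw [Finset.sum_comm]
  simp only [← Finset.sum_smul, hs, ite_smul, zero_smul, ← Finset.sum_filter]
  rw [← Finset.smul_sum, smul_smul]
  congr 1
  · rw [← hcard]
    have hD : (Fintype.card (linHoms L) : ℂ) ≠ 0 := Nat.cast_ne_zero.mpr Fintype.card_ne_zero
    field_simp
  · exact (Finset.sum_subtype (Finset.univ.filter fun k => k ∈ L) (by simp) fun k => A k)

omit [Finite K] hLn in
theorem projSub_apply [Fintype L] {x : W} (hx : ∀ l ∈ L, A l x = x) : projSub A L x = x := by
  rw [projSub, LinearMap.smul_apply, LinearMap.coe_sum, Finset.sum_apply,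
    Finset.sum_congr rfl fun l _ => hx l.1 l.2, Finset.sum_const, Finset.card_univ,
    ← Nat.cast_smul_eq_nsmul ℂ, smul_smul,
    inv_mul_cancel₀ (Nat.cast_ne_zero.mpr Fintype.card_ne_zero), one_smul]

theorem apply_proj_apply [Fintype K] (f : linHoms L) (a : K) (x : W) :
    A a (proj A f x) = (f.1 a : ℂ) • proj A f x :=
  LinearMap.congr_fun (apply_mul_proj A f a) x

theorem eq_sum_proj [Fintype K] [Fintype (linHoms L)] (hab : ∀ a b : K, a * b * a⁻¹ * b⁻¹ ∈ L)
    {x : W} (hx : ∀ l ∈ L, A l x = x) : x = ∑ f : linHoms L, proj A f x := by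
  classical
  have h := LinearMap.congr_fun (sum_proj A hab) x
  rw [projSub_apply A hx, LinearMap.coe_sum, Finset.sum_apply] at h
  exact h.symm

end CfsgLib.Char.OddSection
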