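import Cfsg.Agent.Lib.Char.OddSection.Isotypic
import Cfsg.Agent.Lib.Char.OddSection.Proj
import Mathlib.RepresentationTheory.Basic
import Mathlib.FieldTheory.IsAlgClosed.Basic

/-!
# The lines of the commutant of `L` in an irreducible representation of `K`, `K / L` abelian

A line element for `f` is an operator with `ρ k x = f k • x ρ k`. The commutant of `L` is spanned by
them, and there are operators `J` with `J ^ 2 = 1` carrying the line of `f` to that of `f⁻¹`; any two
of these differ by a line element.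
-/

set_option autoImplicit false
set_option linter.all false
set_option maxHeartbeats 400000

namespace CfsgLib.Char.OddSection

open Module

variable {K : Type*} [Group K] {V : Type*} [AddCommGroup V] [Module ℂ V]
  (ρ : Representation ℂ K V)

/-- Commuting with the operators of `L`. -/
def CommL (L : Subgroup K) (x : Module.End ℂ V) : Prop := ∀ l ∈ L, x * ρ l = ρ l * x

/-- The line elements of a function. -/
def InLine (f : K → ℂˣ) (x : Module.End ℂ V) : Prop := ∀ k, ρ k * x = (f k : ℂ) • (x * ρ k)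

variable {ρ} {L : Subgroup K}

theorem InLine.commL {f : linHoms L} {x : Module.End ℂ V} (h : InLine ρ f.1 x) : CommL ρ L x :=
  fun l hl => by rw [h l, linHoms.map_of_mem f hl, Units.val_one, one_smul]

theorem InLine.smul {f : K → ℂˣ} {x : Module.End ℂ V} (c : ℂ) (h : InLine ρ f x) :
    InLine ρ f (c • x) := fun k => by rw [mul_smul_comm, h k, smul_mul_assoc, smul_comm]

theorem InLine.mul {f g : K → ℂˣ} {x y : Module.End ℂ V} (hx : InLine ρ f x) (hy : InLine ρ g y) :
    InLine ρ (f * g) (x * y) := fun k => by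
  rw [← mul_assoc, hx k, smul_mul_assoc, mul_assoc, hy k, mul_smul_comm, smul_smul, ← mul_assoc,
    Pi.mul_apply, Units.val_mul]

theorem InLine.inv {f : K → ℂˣ} {u : (Module.End ℂ V)ˣ} (hx : InLine ρ f (u : Module.End ℂ V)) :
    InLine ρ f⁻¹ ((u⁻¹ : (Module.End ℂ V)ˣ) : Module.End ℂ V) := fun k => by
  have h := congrArg (fun z => ((u⁻¹ : (Module.End ℂ V)ˣ) : Module.End ℂ V) * z *
    ((u⁻¹ : (Module.End ℂ V)ˣ) : Module.End ℂ V)) (hx k)
  simp only [mul_smul_comm, smul_mul_assoc, ← mul_assoc, Units.inv_mul, one_mul] at h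
  rw [mul_assoc, mul_assoc, Units.mul_inv, mul_one] at h
  rw [Pi.inv_apply, ← Units.smul_def, ← inv_smul_eq_iff, inv_inv, Units.smul_def]
  exact h.symm

theorem InLine.one : InLine ρ (1 : K → ℂˣ) 1 := fun k => by simp

theorem InLine.ext_of_ne {f g : K → ℂˣ} {x : Module.End ℂ V} (hx : x ≠ 0) (hf : InLine ρ f x)
    (hg : InLine ρ g x) : f = g := funext fun k => Units.ext <| by
  have h : ((f k : ℂ) - (g k : ℂ)) • (x * ρ k) = 0 := by rw [sub_smul, ← hf k, ← hg k, sub_self]
  rcases smul_eq_zero.mp h with h | h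
  · exact sub_eq_zero.mp h
  · refine absurd ?_ hx
    calc x = x * ρ k * ρ k⁻¹ := by rw [mul_assoc, ← map_mul, mul_inv_cancel, map_one, mul_one]
      _ = 0 := by rw [h, zero_mul]

variable [FiniteDimensional ℂ V] [Finite K] [ρ.IsIrreducible]

theorem InLine.isUnit {f : K → ℂˣ} {x : Module.End ℂ V} (hx : x ≠ 0) (h : InLine ρ f x) :
    IsUnit x := by
  let S : Subrepresentation ρ := ⟨LinearMap.ker x, fun k v hv => by
    rw [LinearMap.mem_ker] at hv ⊢
    have h1 := LinearMap.congr_fun (h k) v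
    simp only [Module.End.mul_apply, LinearMap.smul_apply, hv, map_zero] at h1
    exact (smul_eq_zero.mp h1.symm).resolve_left (f k).ne_zero⟩
  rw [LinearMap.isUnit_iff_ker_eq_bot]
  rcases IsSimpleOrder.eq_bot_or_eq_top S with hS | hS
  · exact congrArg Subrepresentation.toSubmodule hS
  · exact absurd (LinearMap.ker_eq_top.mp (congrArg Subrepresentation.toSubmodule hS)) hx

theorem InLine.mul_ne_zero {f g : K → ℂˣ} {x y : Module.End ℂ V} (hx : x ≠ 0) (hy : y ≠ 0)
    (hf : InLine ρ f x) (hg : InLine ρ g y) : x * y ≠ 0 := fun h =>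
  hy ((IsUnit.mul_right_eq_zero (InLine.isUnit hx hf)).mp h)

theorem exists_smul_of_inLine_one {x : Module.End ℂ V} (h : InLine ρ (1 : K → ℂˣ) x) :
    ∃ c : ℂ, x = c • 1 := by
  have := Fintype.ofFinite K
  exact exists_eq_smul_of_commute ρ x fun k => by rw [h k]; simp

theorem InLine.exists_smul {f : K → ℂˣ} {x y : Module.End ℂ V} (hx : x ≠ 0) (hfx : InLine ρ f x)
    (hfy : InLine ρ f y) : ∃ c : ℂ, y = c • x := by
  obtain ⟨u, rfl⟩ := InLine.isUnit hx hfx
  have h := hfy.mul hfx.inv
  rw [mul_inv_cancel] at h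
  obtain ⟨c, hc⟩ := exists_smul_of_inLine_one h
  refine ⟨c, ?_⟩
  rw [Units.mul_inv_eq_iff_eq_mul] at hc
  rw [hc, smul_mul_assoc, one_mul]

variable [hLn : L.Normal]

/-- The part of an operator in the line of `f`. -/
noncomputable def part [Fintype K] (f : linHoms L) (x : Module.End ℂ V) : Module.End ℂ V :=
  proj (ρ.linHom ρ) f x

theorem ad_apply (k : K) (x : Module.End ℂ V) : ρ.linHom ρ k x = ρ k * x * ρ k⁻¹ :=
  (mul_assoc _ _ _).symm

theorem part_inLine [Fintype K] (f : linHoms L) (x : Module.End ℂ V) :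
    InLine ρ f.1 (part (ρ := ρ) f x) := fun k => by
  have h := apply_proj_apply (ρ.linHom ρ) f k x
  rw [ad_apply] at h
  have h2 := congrArg (· * ρ k) h
  simp only [smul_mul_assoc, mul_assoc, ← map_mul, inv_mul_cancel, map_one, mul_one] at h2
  exact h2

theorem eq_sum_part [Fintype K] [Fintype (linHoms L)] (hab : ∀ a b : K, a * b * a⁻¹ * b⁻¹ ∈ L)
    {x : Module.End ℂ V} (hx : CommL ρ L x) : x = ∑ f : linHoms L, part (ρ := ρ) f x :=
  eq_sum_proj (ρ.linHom ρ) hab fun l hl => by
    rw [ad_apply, ← hx l hl, mul_assoc, ← map_mul, mul_inv_cancel, map_one, mul_one]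

theorem part_mul [Fintype K] {f g : linHoms L} (y : Module.End ℂ V) {x : Module.End ℂ V}
    (hx : InLine ρ f.1 x) : part (ρ := ρ) (g * f) (y * x) = part (ρ := ρ) g y * x ∧
      part (ρ := ρ) (g * f) (x * y) = x * part (ρ := ρ) g y := by
  have hk : ∀ k, ρ.linHom ρ k (y * x) = (f.1 k : ℂ) • (ρ.linHom ρ k y * x) ∧
      ρ.linHom ρ k (x * y) = (f.1 k : ℂ) • (x * ρ.linHom ρ k y) := by
    intro k
    have hx' : x * ρ k⁻¹ = (f.1 k : ℂ) • (ρ k⁻¹ * x) := by
      rw [hx k⁻¹, smul_smul, linHoms.map_inv, Units.mul_inv, one_smul]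
    constructor
    · rw [ad_apply, ad_apply, mul_assoc, mul_assoc, hx', mul_smul_comm, mul_smul_comm]
      simp only [mul_assoc]
    · rw [ad_apply, ad_apply, ← mul_assoc (ρ k), hx k]
      simp only [smul_mul_assoc, mul_assoc]
  constructor
  · simp only [part, proj, LinearMap.smul_apply, LinearMap.coe_sum, Finset.sum_apply,
      smul_mul_assoc, Finset.sum_mul]
    congr 1
    refine Finset.sum_congr rfl fun k _ => ?_
    rw [(hk k).1, smul_smul]
    congr 1
    simp [mul_comm]
  · simp only [part, proj, LinearMap.smul_apply, LinearMap.coe_sum, Finset.sum_apply,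
      mul_smul_comm, Finset.mul_sum]
    congr 1
    refine Finset.sum_congr rfl fun k _ => ?_
    rw [(hk k).2, smul_smul]
    congr 1
    simp [mul_comm]

variable {U : Type*} [AddCommGroup U] [Module ℂ U] [FiniteDimensional ℂ U]
  {φ : Representation ℂ L U} [φ.IsIrreducible] {e : ℕ}
  (hres : ∀ l : L, ρ.character l = (e : ℂ) * φ.character l)
  (hab : ∀ a b : K, a * b * a⁻¹ * b⁻¹ ∈ L)

include hab in
theorem commute_of_lines {z : Module.End ℂ V}
    (hz : ∀ (f : linHoms L) (y : Module.End ℂ V), InLine ρ f.1 y → z * y = y * z)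
    {x : Module.End ℂ V} (hx : CommL ρ L x) : z * x = x * z := by
  have := Fintype.ofFinite K
  have := Fintype.ofFinite (linHoms L)
  conv_lhs => rw [eq_sum_part hab hx, Finset.mul_sum]
  conv_rhs => rw [eq_sum_part hab hx, Finset.sum_mul]
  exact Finset.sum_congr rfl fun f _ => hz f _ (part_inLine f x)

include hres hab in
theorem eq_smul_of_lines {z : Module.End ℂ V} (hzL : CommL ρ L z)
    (hz : ∀ (f : linHoms L) (y : Module.End ℂ V), InLine ρ f.1 y → z * y = y * z) :
    ∃ c : ℂ, z = c • 1 :=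
  exists_smul_of_commute φ (ρ.comp L.subtype) (m := e) hres (fun l => hzL l l.2) fun x hx =>
    commute_of_lines hab hz fun l hl => hx ⟨l, hl⟩

include hres hab in
theorem mem_span_of_lines {z : Module.End ℂ V}
    (hz : ∀ (f : linHoms L) (y : Module.End ℂ V), InLine ρ f.1 y → z * y = y * z) :
    z ∈ Submodule.span ℂ (Set.range fun l : L => ρ l) :=
  mem_span_of_commute φ (ρ.comp L.subtype) (m := e) hres fun x hx =>
    commute_of_lines hab hz fun l hl => hx ⟨l, hl⟩

include hres hab in
/-- An operator which commutes with all line elements up to scalars is a line element. -/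
theorem exists_inLine_of_commute_scalar {y : Module.End ℂ V} (hy : CommL ρ L y) (hy0 : y ≠ 0)
    (h : ∀ (f : linHoms L) (x : Module.End ℂ V), InLine ρ f.1 x → x ≠ 0 →
      ∃ c : ℂ, y * x = c • (x * y)) :
    ∃ g : linHoms L, InLine ρ g.1 y := by
  have := Fintype.ofFinite K
  have := Fintype.ofFinite (linHoms L)
  obtain ⟨g, hg⟩ : ∃ g : linHoms L, part (ρ := ρ) g y ≠ 0 := by
    by_contra hno
    push Not at hno
    exact hy0 (by rw [eq_sum_part hab hy, Finset.sum_eq_zero fun f _ => hno f])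
  set z := part (ρ := ρ) g y with hz
  have hzl : InLine ρ g.1 z := part_inLine g y
  have hu0 := InLine.isUnit hg hzl
  obtain ⟨u, hu⟩ := hu0
  have hc : ∀ (f : linHoms L) (x : Module.End ℂ V), InLine ρ f.1 x →
      ((u⁻¹ : (Module.End ℂ V)ˣ) : Module.End ℂ V) * y * x =
        x * (((u⁻¹ : (Module.End ℂ V)ˣ) : Module.End ℂ V) * y) := by
    intro f x hx
    rcases eq_or_ne x 0 with rfl | hx0
    · simp
    obtain ⟨c, hc⟩ := h f x hx hx0
    have h1 : z * x = c • (x * z) := by
      rw [← (part_mul (g := g) y hx).1, hc, part, map_smul, ← part, (part_mul (g := g) y hx).2]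
    have h2 : x * ((u⁻¹ : (Module.End ℂ V)ˣ) : Module.End ℂ V) =
        c • (((u⁻¹ : (Module.End ℂ V)ˣ) : Module.End ℂ V) * x) := by
      have h3 := congrArg (fun w => ((u⁻¹ : (Module.End ℂ V)ˣ) : Module.End ℂ V) * w *
        ((u⁻¹ : (Module.End ℂ V)ˣ) : Module.End ℂ V)) h1
      rw [← hu] at h3
      simp only [mul_smul_comm, smul_mul_assoc, ← mul_assoc, Units.inv_mul, one_mul] at h3
      rw [mul_assoc _ (u : Module.End ℂ V), Units.mul_inv, mul_one] at h3
      exact h3
    rw [← mul_assoc x, h2, mul_assoc, hc, mul_smul_comm, smul_mul_assoc, mul_assoc]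
  obtain ⟨c, hc'⟩ := eq_smul_of_lines hres hab (z := ((u⁻¹ : (Module.End ℂ V)ˣ) : Module.End ℂ V) * y)
    (fun l hl => by
      have hzi : InLine ρ g.1 (u : Module.End ℂ V) := by rw [hu]; exact hzl
      have hzL := (show InLine ρ (g⁻¹ : linHoms L).1 _ from hzi.inv).commL l hl
      rw [mul_assoc, hy l hl, ← mul_assoc, hzL, mul_assoc]) hc
  refine ⟨g, ?_⟩
  rw [Units.inv_mul_eq_iff_eq_mul, mul_smul_comm, mul_one] at hc'
  rw [hc', hu]
  exact hzl.smul c

end CfsgLib.Char.OddSection
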