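import Cfsg.Agent.Lib.Char.OddSection.InvariantCase

/-!
# Replacing `K` by the part of the section without fixed points
-/

set_option autoImplicit false
set_option linter.all false
set_option maxHeartbeats 400000

namespace CfsgLib.Char.OddSection

variable {G : Type*} [Group G] [Fintype G] {S : Type*} [Group S] [Finite S] (a : S →* MulAut G)

theorem exists_shrink (hcop : (Nat.card G).Coprime (Nat.card S)) (hsolv : Group.IsSolvable G)
    (K L C : Subgroup G) (hC : ∀ c, c ∈ C ↔ ∀ s, a s c = c) (hKn : K.Normal) (hLn : L.Normal)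
    (hLK : L ≤ K) (hKS : ∀ s, ∀ k ∈ K, a s k ∈ K) (hLS : ∀ s, ∀ l ∈ L, a s l ∈ L)
    (hab : ∀ x ∈ K, ∀ y ∈ K, x * y * x⁻¹ * y⁻¹ ∈ L) (hgen : K ⊔ C = ⊤) :
    ∃ K₁ : Subgroup G, K₁.Normal ∧ L ≤ K₁ ∧ K₁ ≤ K ∧ (∀ s, ∀ k ∈ K₁, a s k ∈ K₁) ∧
      K₁ ⊔ C = ⊤ ∧ ∀ c ∈ K₁, (∀ s, a s c = c) → c ∈ L := by
  classical
  have := hKn
  have := Fintype.ofFinite S
  have hL'n : (L.subgroupOf K).Normal := hLn.subgroupOf K
  set aK := restrAut a K hKS with haK
  let Fixed : linHoms (L.subgroupOf K) → Prop := fun f => ∀ s k, f.1 (aK s k) = f.1 k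
  let M : Subgroup K := ⨅ f : {f : linHoms (L.subgroupOf K) // Fixed f}, (linHoms.toHom f.1).ker
  have hM : ∀ k, k ∈ M ↔ ∀ f, Fixed f → f.1 k = 1 := fun k => by
    rw [Subgroup.mem_iInf]
    exact ⟨fun h f hf => h ⟨f, hf⟩, fun h f => h f.1 f.2⟩
  refine ⟨M.map K.subtype, ?_, ?_, Subgroup.map_subtype_le M, ?_, ?_, ?_⟩
  · have hK : ∀ g ∈ K, ∀ x ∈ M.map K.subtype, g * x * g⁻¹ ∈ M.map K.subtype := by
      rintro g hg _ ⟨x, hx, rfl⟩
      refine ⟨⟨g, hg⟩ * x * (⟨g, hg⟩ : K)⁻¹, (hM _).mpr fun f hf => ?_, rfl⟩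
      rw [linHoms.map_mul, linHoms.map_mul, linHoms.map_inv, (hM x).mp hx f hf, mul_one,
        mul_inv_cancel]
    have hCc : ∀ g ∈ C, ∀ x ∈ M.map K.subtype, g * x * g⁻¹ ∈ M.map K.subtype := by
      rintro g hg _ ⟨x, hx, rfl⟩
      refine ⟨MulAut.conjNormal g x, (hM _).mpr fun f hf => ?_, MulAut.conjNormal_apply g x⟩
      let f' : linHoms (L.subgroupOf K) :=
        ⟨fun k => f.1 (MulAut.conjNormal g k),
          fun u v => by simp only [map_mul, linHoms.map_mul],
          fun l hl => linHoms.map_of_mem f (by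
            show ((MulAut.conjNormal g l : K) : G) ∈ L
            rw [MulAut.conjNormal_apply]
            exact hLn.conj_mem _ hl g)⟩
      refine (hM x).mp hx f' fun s k => ?_
      show f.1 (MulAut.conjNormal g (aK s k)) = f.1 (MulAut.conjNormal g k)
      rw [← hf s (MulAut.conjNormal g k)]
      refine congrArg f.1 (Subtype.ext ?_)
      show g * a s (k : G) * g⁻¹ = a s (g * (k : G) * g⁻¹)
      rw [map_mul, map_mul, map_inv, (hC g).mp hg s]
    have hle : K ⊔ C ≤ Subgroup.normalizer ((M.map K.subtype : Subgroup G) : Set G) :=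
      sup_le (Subgroup.le_normalizer_iff.mpr hK) (Subgroup.le_normalizer_iff.mpr hCc)
    rw [hgen, top_le_iff] at hle
    exact Subgroup.normalizer_eq_top_iff.mp hle
  · intro l hl
    exact ⟨⟨l, hLK hl⟩, (hM _).mpr fun f _ => linHoms.map_of_mem f hl, rfl⟩
  · rintro s _ ⟨x, hx, rfl⟩
    exact ⟨aK s x, (hM _).mpr fun f hf => (hf s x).trans ((hM x).mp hx f hf), rfl⟩
  · refine eq_top_iff.mpr (hgen ▸ sup_le (fun k hk => ?_) le_sup_right)
    obtain ⟨n, hn, hfix⟩ := exists_fixed_in_coset a hcop hsolv (M.map K.subtype)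
      (by
        rintro s _ ⟨x, hx, rfl⟩
        exact ⟨aK s x, (hM _).mpr fun f hf => (hf s x).trans ((hM x).mp hx f hf), rfl⟩)
      (g := k) (fun s => ⟨(⟨k, hk⟩ : K)⁻¹ * aK s ⟨k, hk⟩, (hM _).mpr fun f hf => by
        rw [linHoms.map_mul, linHoms.map_inv, hf, inv_mul_cancel], rfl⟩)
    rw [show k = (k * n) * n⁻¹ by group]
    exact Subgroup.mul_mem _ (Subgroup.mem_sup_right ((hC _).mpr hfix))
      (Subgroup.mem_sup_left ((M.map K.subtype).inv_mem hn))
  · rintro _ ⟨c, hc, rfl⟩ hfix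
    by_contra hcL
    obtain ⟨lam, hlam⟩ := exists_linHom_ne_one (L := L.subgroupOf K)
      (fun x y => hab x x.2 y y.2) (k := c) hcL
    let tr : S → linHoms (L.subgroupOf K) := fun t =>
      ⟨fun k => lam.1 (aK t k), fun u v => by simp only [map_mul, linHoms.map_mul],
        fun l hl => linHoms.map_of_mem lam (hLS t _ hl)⟩
    have hval : ∀ k, (∏ t, tr t).1 k = ∏ t, lam.1 (aK t k) := fun k => by
      simp [tr, Finset.prod_apply]
    have hfixed : Fixed (∏ t, tr t) := fun s k => by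
      rw [hval, hval]
      exact Fintype.prod_equiv (Equiv.mulRight s) _ _ fun t => by
        show lam.1 (aK t (aK s k)) = lam.1 (aK (t * s) k)
        rw [map_mul]; rfl
    have h1 := (hM c).mp hc _ hfixed
    rw [hval, Finset.prod_congr rfl fun t _ => show lam.1 (aK t c) = lam.1 c from
      congrArg lam.1 (Subtype.ext (hfix t)), Finset.prod_const, Finset.card_univ] at h1
    have h2 : lam.1 c ^ Nat.card K = 1 := by
      have h := congrArg (fun x : linHoms (L.subgroupOf K) => x.1 c) (linHoms.pow_card lam)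
      simpa using h
    have h3 := pow_gcd_eq_one.mpr ⟨h2, h1⟩
    rw [← Nat.card_eq_fintype_card,
      Nat.coprime_iff_gcd_eq_one.mp (hcop.coprime_dvd_left K.card_subgroup_dvd_card), pow_one] at h3
    exact hlam h3

end CfsgLib.Char.OddSection
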