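import Cfsg.Agent.Lib.Char.OddSection.Helpers
import Cfsg.Agent.Lib.Char.OddSection.Shrink

/-!
# The abelian section correspondence for groups of odd order
-/

set_option autoImplicit false
set_option linter.all false
set_option maxHeartbeats 1000000

namespace CfsgLib.Char.OddSection

open CfsgLib.Clifford
open scoped ComplexConjugate

variable {G : Type*} [Group G] [Fintype G]

/-- A constituent below an invariant character lies over it. -/
theorem over_of_constituent {N T : Subgroup G} [Fintype N] [Fintype T] (hN : N.Normal) (hle : N ≤ T)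
    {χ : G → ℂ} (hχ : Cfsg.IsIrrCharacter G χ) {φ : N → ℂ} (hφ : Cfsg.IsIrrCharacter N φ)
    (hinv : ∀ g, conjFn hN φ g = φ) (hc : Cfsg.classInner (fun n : N => χ n) φ ≠ 0)
    {ω : T → ℂ} (hω : Cfsg.IsIrrCharacter T ω) (h1 : Cfsg.classInner (fun t : T => χ t) ω ≠ 0) :
    Cfsg.classInner (resTo hle ω) φ ≠ 0 := by
  have h0 : resTo hle ω ≠ 0 := fun h => IsIrr.apply_one_ne_zero hω (congrFun h 1)
  obtain ⟨φ₂, hφ₂⟩ := exists_constituent
    (IsChar.isClassFunction (isCharacter_resTo hle (IsIrr.isCharacter hω))) h0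
  obtain ⟨g, hg⟩ := exists_conj_of_constituent hN hχ hφ φ₂.2 hc
    (below hle (IsIrr.isCharacter hχ) hω (IsIrr.isCharacter φ₂.2) h1 hφ₂)
  rwa [hg, hinv] at hφ₂

variable {S : Type*} [Group S] [Finite S] (a : S →* MulAut G)

variable (K L H : Subgroup G) [Fintype L] [Fintype H]

/-- The correspondence over a fixed character `φ` of `L`. -/
theorem inertia_step (hodd : Odd (Nat.card G)) (hcop : (Nat.card G).Coprime (Nat.card S))
    (hsolv : Group.IsSolvable G) (hKn : K.Normal) (hLn : L.Normal) (hLK : L ≤ K) (hLH : L ≤ H)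
    (hKS : ∀ s, ∀ k ∈ K, a s k ∈ K) (hLS : ∀ s, ∀ l ∈ L, a s l ∈ L)
    (hHS : ∀ s, ∀ h ∈ H, a s h ∈ H)
    (hab : ∀ x ∈ K, ∀ y ∈ K, x * y * x⁻¹ * y⁻¹ ∈ L)
    (hH : ∀ h ∈ H, ∃ l ∈ L, ∃ c : G, (∀ s, a s c = c) ∧ h = l * c)
    (hCH : ∀ c : G, (∀ s, a s c = c) → c ∈ H)
    (hgen : ∀ g : G, ∃ k ∈ K, ∃ c : G, (∀ s, a s c = c) ∧ g = k * c)
    (hKC : ∀ c ∈ K, (∀ s, a s c = c) → c ∈ L)
    (φ : L → ℂ) (hφ : Cfsg.IsIrrCharacter L φ) (hφS : InvOn a L φ) :
    (∀ χ : Cfsg.IrrCharacter G, (∀ s g, (χ : G → ℂ) (a s g) = (χ : G → ℂ) g) →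
      Cfsg.classInner (fun l : L => (χ : G → ℂ) l) φ ≠ 0 →
        ∃! ψ : Cfsg.IrrCharacter H, InvOn a H (ψ : H → ℂ) ∧
          Cfsg.classInner (resTo hLH (ψ : H → ℂ)) φ ≠ 0 ∧ OddMult H (χ : G → ℂ) (ψ : H → ℂ)) ∧
    (∀ χ χ' : Cfsg.IrrCharacter G, (∀ s g, (χ : G → ℂ) (a s g) = (χ : G → ℂ) g) →
      (∀ s g, (χ' : G → ℂ) (a s g) = (χ' : G → ℂ) g) →
      Cfsg.classInner (fun l : L => (χ : G → ℂ) l) φ ≠ 0 →
      Cfsg.classInner (fun l : L => (χ' : G → ℂ) l) φ ≠ 0 →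
        ∀ ψ : Cfsg.IrrCharacter H, InvOn a H (ψ : H → ℂ) →
          Cfsg.classInner (resTo hLH (ψ : H → ℂ)) φ ≠ 0 → OddMult H (χ : G → ℂ) (ψ : H → ℂ) →
            OddMult H (χ' : G → ℂ) (ψ : H → ℂ) → χ = χ') ∧
    (∀ ψ : Cfsg.IrrCharacter H, InvOn a H (ψ : H → ℂ) →
      Cfsg.classInner (resTo hLH (ψ : H → ℂ)) φ ≠ 0 →
        ∃ χ : Cfsg.IrrCharacter G, (∀ s g, (χ : G → ℂ) (a s g) = (χ : G → ℂ) g) ∧
          OddMult H (χ : G → ℂ) (ψ : H → ℂ)) := by
  classical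
  set T : Subgroup G := inertia hLn φ with hTdef
  have hT : ∀ g, g ∈ T ↔ conjFn hLn φ g = φ := fun g => Iff.rfl
  have hLT : L ≤ T := le_inertia hLn (IsIrr.isClassFunction hφ)
  have hTS : ∀ s, ∀ t ∈ T, a s t ∈ T := by
    intro s t ht
    funext l
    have h1 : ∃ l' : L, a s (l' : G) = (l : G) := ⟨⟨a s⁻¹ (l : G), hLS s⁻¹ l l.2⟩, by simp [map_inv]⟩
    obtain ⟨l', hl'⟩ := h1
    have h2 : conjFn hLn φ (a s t) l = conjFn hLn φ t l' :=
      (congrArg φ (Subtype.ext (by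
        show a s t * (l : G) * (a s t)⁻¹ = a s (t * (l' : G) * t⁻¹)
        rw [map_mul (a s), map_mul (a s), map_inv (a s), hl']))).trans
        (hφS s _ ⟨a s (t * (l' : G) * t⁻¹), hLS s _ (hLn.conj_mem _ l'.2 t)⟩ rfl)
    rw [h2, congrFun ((hT t).mp ht) l']
    exact (hφS s l' l hl'.symm).symm
  have := Fintype.ofFinite T
  set aT := restrAut a T hTS with haT
  have hfixT : ∀ c : T, (∀ s, aT s c = c) → ∀ s, a s (c : G) = c :=
    fun c hc s => congrArg Subtype.val (hc s)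
  let L' : Subgroup T := L.subgroupOf T
  let H' : Subgroup T := H.subgroupOf T
  have hL'n : L'.Normal := hLn.subgroupOf T
  have := Fintype.ofFinite L'
  have := Fintype.ofFinite H'
  let eL : L' ≃* L := Subgroup.subgroupOfEquivOfLe hLT
  let φ' : L' → ℂ := fun x => φ (eL x)
  have hφ'i : Cfsg.IsIrrCharacter L' φ' := IsIrr.comp_surjective eL.toMonoidHom eL.surjective hφ
  have hL'H' : L' ≤ H' := fun x hx => hLH hx
  have hφ'inv : ∀ t : T, conjFn hL'n φ' t = φ' := fun t => funext fun x =>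
    (congrArg φ (Subtype.ext rfl)).trans (congrFun ((hT (t : G)).mp t.2) (eL x))
  obtain ⟨hA, hB, hC'⟩ := invariant_case aT (K.subgroupOf T) L' H'
    (Odd.of_dvd_nat hodd T.card_subgroup_dvd_card)
    (hcop.coprime_dvd_left T.card_subgroup_dvd_card) (CfsgLib.Core.isSolvable_of_le
      (show Group.IsSolvable (⊤ : Subgroup G) by
        haveI := hsolv
        exact Group.isSolvable_of_surjective (f := (Subgroup.topEquiv (G := G)).symm.toMonoidHom)
          (MulEquiv.surjective _)) le_top)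
    (hKn.subgroupOf T) hL'n (fun x hx => hLK hx) hL'H'
    (fun s k hk => hKS s _ hk) (fun s l hl => hLS s _ hl)
    (fun x hx y hy => hab _ hx _ hy)
    (fun h hh => by
      obtain ⟨l, hl, c, hc, hlc⟩ := hH (h : G) hh
      have hcT : c ∈ T := by
        have := T.mul_mem (T.inv_mem (hLT hl)) h.2
        rwa [hlc, inv_mul_cancel_left] at this
      exact ⟨⟨l, hLT hl⟩, hl, ⟨c, hcT⟩, fun s => Subtype.ext (hc s), Subtype.ext hlc⟩)
    (eq_top_iff.mpr fun t _ => by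
      obtain ⟨k, hk, c, hc, hkc⟩ := hgen (t : G)
      obtain ⟨n, hn, hfix⟩ := exists_fixed_in_coset a hcop hsolv (K ⊓ T)
        (fun s x hx => ⟨hKS s x hx.1, hTS s x hx.2⟩) (g := (t : G)) (fun s => by
          refine ⟨?_, T.mul_mem (T.inv_mem t.2) (hTS s _ t.2)⟩
          rw [hkc, map_mul, hc s]
          have h := hKn.conj_mem _ (K.mul_mem (K.inv_mem hk) (hKS s k hk)) c⁻¹
          simpa [mul_assoc] using h)
      rw [show t = (t * ⟨n, hn.2⟩) * (⟨n, hn.2⟩ : T)⁻¹ by group]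
      exact Subgroup.mul_mem _ (Subgroup.mem_sup_right (hCH _ hfix))
        (Subgroup.mem_sup_left ((K.subgroupOf T).inv_mem hn.1)))
    (fun c hc hfix => hKC _ hc (hfixT c hfix))
    φ' hφ'i hφ'inv (fun s l l' hl => hφS s (eL l) (eL l') (congrArg Subtype.val hl))
  -- inside `H`
  let TH : Subgroup H := T.subgroupOf H
  let NH : Subgroup H := L.subgroupOf H
  have hNHn : NH.Normal := hLn.subgroupOf H
  have := Fintype.ofFinite TH
  have := Fintype.ofFinite NH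
  let eH : NH ≃* L := Subgroup.subgroupOfEquivOfLe hLH
  let φH : NH → ℂ := fun x => φ (eH x)
  have hφHi : Cfsg.IsIrrCharacter NH φH := IsIrr.comp_surjective eH.toMonoidHom eH.surjective hφ
  have hTH : ∀ h : H, h ∈ TH ↔ conjFn hNHn φH h = φH := by
    intro h
    show (h : G) ∈ T ↔ _
    rw [hT]
    constructor
    · exact fun he => funext fun x => (congrArg φ (Subtype.ext rfl)).trans (congrFun he (eH x))
    · intro he
      funext l
      obtain ⟨x, rfl⟩ := eH.surjective l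
      exact (congrArg φ (Subtype.ext rfl)).trans (congrFun he x)
  have hNT : NH ≤ TH := fun x hx => hLT hx
  set aH := restrAut a H hHS with haH
  have hTHS : ∀ s, ∀ x : H, aH s x ∈ TH ↔ x ∈ TH := fun s x =>
    mem_iff_of_invariant a hTS s (x : G)
  let E : H' ≃* TH :=
    { toFun := fun x => ⟨⟨((x : T) : G), x.2⟩, (x : T).2⟩
      invFun := fun x => ⟨⟨((x : H) : G), x.2⟩, (x : H).2⟩
      left_inv := fun x => rfl
      right_inv := fun x => rfl
      map_mul' := fun x y => rfl }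
  have hover' : ∀ θ : TH → ℂ, Cfsg.classInner (resTo hL'H' (fun x => θ (E x))) φ' =
      Cfsg.classInner (resTo hNT θ) φH := by
    intro θ
    rw [← classInner_comp_equiv (eL.trans eH.symm) (resTo hNT θ) φH]
    congr 1
  have hoverL : ∀ ψ : H → ℂ, Cfsg.classInner (fun n : NH => ψ n) φH =
      Cfsg.classInner (resTo hLH ψ) φ :=
    fun ψ => classInner_comp_equiv eH (resTo hLH ψ) φ
  have hoverT : ∀ η : T → ℂ, Cfsg.classInner (fun n : L' => η n) φ' =
      Cfsg.classInner (resTo hLT η) φ :=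
    fun η => classInner_comp_equiv eL (resTo hLT η) φ
  -- correspondents
  have hcorr : ∀ χ : Cfsg.IrrCharacter G, (∀ s g, (χ : G → ℂ) (a s g) = (χ : G → ℂ) g) →
      Cfsg.classInner (fun l : L => (χ : G → ℂ) l) φ ≠ 0 →
      ∃ η : Cfsg.IrrCharacter T, (∀ s t, (η : T → ℂ) (aT s t) = (η : T → ℂ) t) ∧
        Cfsg.classInner (fun n : L' => (η : T → ℂ) n) φ' ≠ 0 ∧
        Cfsg.indFun T (η : T → ℂ) = (χ : G → ℂ) := by
    intro χ hχ hc
    obtain ⟨η, hη, hηc, -, hind⟩ := exists_over_inertia hLn hφ hT hLT χ hc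
    refine ⟨⟨η, hη⟩, fun s t => ?_, by rw [hoverT]; exact hηc, hind⟩
    have hη' : Cfsg.IsIrrCharacter T (fun t => η (aT s t)) :=
      IsIrr.comp_surjective (aT s).toMonoidHom (aT s).surjective hη
    have h := indFun_injective_of_over hLn hφ hT hLT hη' hη (by
        have h1 := classInner_comp_equiv (restrAut a L hLS s) (resTo hLT η) φ
        rw [show (fun l => φ (restrAut a L hLS s l)) = φ from
          funext fun l => hφS s l _ rfl] at h1
        exact fun h0 => hηc (h1.symm.trans h0)) hηc (funext fun g =>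
        (indFun_comp_aut (a s) T (mem_iff_of_invariant a hTS s) η g).trans (by rw [hind]; exact hχ s g))
    exact congrFun h t
  have hcorrH : ∀ ψ : Cfsg.IrrCharacter H, InvOn a H (ψ : H → ℂ) →
      Cfsg.classInner (resTo hLH (ψ : H → ℂ)) φ ≠ 0 →
      ∃ θ : Cfsg.IrrCharacter TH, InvOn aT H' (fun x => (θ : TH → ℂ) (E x)) ∧
        Cfsg.classInner (resTo hNT (θ : TH → ℂ)) φH ≠ 0 ∧
        Cfsg.indFun TH (θ : TH → ℂ) = (ψ : H → ℂ) := by
    intro ψ hψ hc
    obtain ⟨θ, hθ, hθc, -, hind⟩ := exists_over_inertia hNHn hφHi hTH hNT ψ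
      (by rw [hoverL]; exact hc)
    refine ⟨⟨θ, hθ⟩, fun s x x' hx => ?_, hθc, hind⟩
    let aTH : TH ≃* TH :=
      { toFun := fun x => ⟨aH s x, (hTHS s x).mpr x.2⟩
        invFun := fun x => ⟨aH s⁻¹ x, (hTHS s⁻¹ x).mpr x.2⟩
        left_inv := fun x => Subtype.ext (by simp [map_inv])
        right_inv := fun x => Subtype.ext (by simp [map_inv])
        map_mul' := fun x y => Subtype.ext (map_mul (aH s) (x : H) (y : H)) }
    have hθ' : Cfsg.IsIrrCharacter TH (fun x => θ (aTH x)) :=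
      IsIrr.comp_surjective aTH.toMonoidHom aTH.surjective hθ
    have h := indFun_injective_of_over hNHn hφHi hTH hNT hθ' hθ (by
        let eN : NH ≃* NH := (eH.trans (restrAut a L hLS s)).trans eH.symm
        have h1 := classInner_comp_equiv eN (resTo hNT θ) φH
        have h2 : (fun l => φH (eN l)) = φH := funext fun l => by
          show φ (eH (eH.symm (restrAut a L hLS s (eH l)))) = φ (eH l)
          rw [MulEquiv.apply_symm_apply]
          exact hφS s _ _ rfl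
        rw [h2] at h1
        exact fun h0 => hθc (h1.symm.trans h0)) hθc (funext fun g =>
        (indFun_comp_aut (aH s) TH (hTHS s) θ g).trans (by rw [hind]; exact hψ s g _ rfl))
    refine Eq.trans ?_ (congrFun h (E x))
    exact congrArg θ (Subtype.ext (Subtype.ext ((congrArg Subtype.val hx).trans rfl)))
  -- the transfer
  have hkey : ∀ (χ : Cfsg.IrrCharacter G) (η : Cfsg.IrrCharacter T) (θ : Cfsg.IrrCharacter TH),
      Cfsg.classInner (fun n : L' => (η : T → ℂ) n) φ' ≠ 0 →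
      Cfsg.indFun T (η : T → ℂ) = (χ : G → ℂ) →
      Cfsg.classInner (resTo hNT (θ : TH → ℂ)) φH ≠ 0 →
      Cfsg.classInner (fun h : H => (χ : G → ℂ) h) (Cfsg.indFun TH (θ : TH → ℂ)) =
        Cfsg.classInner (fun x : H' => (η : T → ℂ) x) (fun x => (θ : TH → ℂ) (E x)) := by
    intro χ η θ hη hind hθ
    have := Fintype.ofFinite (Cfsg.IrrCharacter T)
    rw [← classInner_conj_symm, frobenius_reciprocity TH _
      (IsChar.isClassFunction (IsChar.restrict H (IsIrr.isCharacter χ.2))), classInner_conj_symm,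
      ← classInner_comp_equiv E (fun h : TH => (χ : G → ℂ) ((h : H) : G)) (θ : TH → ℂ)]
    have hexp := classFunction_eq_sum (IsChar.isClassFunction (IsChar.restrict T (IsIrr.isCharacter χ.2)))
    have hres : (fun x : H' => (χ : G → ℂ) ((E x : H) : G)) = ∑ ω : Cfsg.IrrCharacter T,
        Cfsg.classInner (fun t : T => (χ : G → ℂ) t) (ω : T → ℂ) • fun x : H' => (ω : T → ℂ) x := by
      funext x
      have h := congrFun hexp (x : T)
      simpa [Finset.sum_apply, E] using h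
    obtain ⟨-, -, hothers⟩ := indFun_eq_of_constituent hLn hφ hT hLT η.2
      (by rw [← hoverT]; exact hη) χ (by rw [hind, classInner_irr_self]; exact one_ne_zero)
    rw [hres, classInner_sum_left, Finset.sum_eq_single η]
    · have h1 : Cfsg.classInner (fun t : T => (χ : G → ℂ) t) (η : T → ℂ) = 1 := by
        rw [← classInner_conj_symm, ← frobenius_reciprocity T _ (IsIrr.isClassFunction χ.2), hind,
          classInner_irr_self, map_one]
      rw [classInner_smul_left, h1, one_mul]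
    · intro ω _ hω
      rw [classInner_smul_left]
      rcases hothers ω (fun h => hω (Subtype.ext h)) with h | h
      · rw [h, zero_mul]
      · by_contra hne
        refine right_ne_zero_of_mul hne ?_
        by_contra hne2
        refine below hL'H' (IsIrr.isCharacter ω.2)
          (IsIrr.comp_surjective E.toMonoidHom E.surjective θ.2) (IsIrr.isCharacter hφ'i) hne2
          (by rw [show (fun x => (θ : TH → ℂ) (E.toMonoidHom x)) = fun x => (θ : TH → ℂ) (E x) from rfl,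
            hover']; exact hθ) ?_
        rw [hoverT]; exact h
    · exact fun h => absurd (Finset.mem_univ η) h
  refine ⟨fun χ hχ hc => ?_, fun χ χ' hχ hχ' hc hc' ψ hψ hψc h1 h2 => ?_, fun ψ hψ hψc => ?_⟩
  · obtain ⟨η, hηS, hηc, hind⟩ := hcorr χ hχ hc
    obtain ⟨θE, ⟨hθES, m, hm, hm'⟩, huniq⟩ := hA η hηS hηc
    let θ : Cfsg.IrrCharacter TH :=
      ⟨_, IsIrr.comp_surjective E.symm.toMonoidHom E.symm.surjective θE.2⟩
    have hθE : (fun x => (θ : TH → ℂ) (E x)) = (θE : H' → ℂ) :=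
      funext fun x => congrArg (θE : H' → ℂ) (E.symm_apply_apply x)
    have hθc : Cfsg.classInner (resTo hNT (θ : TH → ℂ)) φH ≠ 0 := by
      rw [← hover', hθE]
      exact over_of_constituent hL'n hL'H' η.2 hφ'i hφ'inv hηc θE.2
        (by rw [hm]; exact Nat.cast_ne_zero.mpr fun h0 => by simp [h0] at hm')
    let ψ : Cfsg.IrrCharacter H := ⟨_, isIrr_indFun_of_over hNHn hφHi hTH hNT θ.2 hθc⟩
    have hψodd : OddMult H (χ : G → ℂ) (ψ : H → ℂ) := ⟨m, by
      show Cfsg.classInner _ (Cfsg.indFun TH (θ : TH → ℂ)) = _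
      rw [hkey χ η θ hηc hind hθc, hθE, hm], hm'⟩
    have hψS : InvOn a H (ψ : H → ℂ) := by
      intro s h h' hh
      show Cfsg.indFun TH (θ : TH → ℂ) h' = Cfsg.indFun TH (θ : TH → ℂ) h
      rw [show h' = aH s h from Subtype.ext hh, ← indFun_comp_aut (aH s) TH (hTHS s)]
      congr 1
      funext x
      show (θE : H' → ℂ) (E.symm _) = (θE : H' → ℂ) (E.symm x)
      exact hθES s _ _ (Subtype.ext rfl)
    refine ⟨ψ, ⟨hψS, ?_, hψodd⟩, fun ψ' ⟨hψ'S, hψ'c, m', hm₂, hm₂'⟩ => ?_⟩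
    · rw [← hoverL]
      show Cfsg.classInner (fun n : NH => Cfsg.indFun TH (θ : TH → ℂ) n) φH ≠ 0
      rw [classInner_restrict_indFun hNHn hφHi hTH hNT θ.2 hθc]
      exact hθc
    · obtain ⟨θ', hθ'S, hθ'c, hind'⟩ := hcorrH ψ' hψ'S hψ'c
      have h := huniq ⟨_, IsIrr.comp_surjective E.toMonoidHom E.surjective θ'.2⟩
        ⟨hθ'S, m', by
          show Cfsg.classInner _ (fun x => (θ' : TH → ℂ) (E x)) = _
          rw [← hkey χ η θ' hηc hind hθ'c, hind', hm₂], hm₂'⟩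
      apply Subtype.ext
      rw [← hind']
      show _ = Cfsg.indFun TH (θ : TH → ℂ)
      congr 1
      funext x
      show _ = (θE : H' → ℂ) (E.symm x)
      rw [← congrArg Subtype.val h]
      show _ = (θ' : TH → ℂ) (E (E.symm x))
      rw [MulEquiv.apply_symm_apply]
  · obtain ⟨η, hηS, hηc, hind⟩ := hcorr χ hχ hc
    obtain ⟨η', hη'S, hη'c, hind'⟩ := hcorr χ' hχ' hc'
    obtain ⟨θ, hθS, hθc, hindθ⟩ := hcorrH ψ hψ hψc
    obtain ⟨m, hm, hm'⟩ := h1
    obtain ⟨m₂, hm₂, hm₂'⟩ := h2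
    have heq := hB η η' hηS hη'S hηc hη'c
      ⟨_, IsIrr.comp_surjective E.toMonoidHom E.surjective θ.2⟩
      ⟨m, by
        show Cfsg.classInner _ (fun x => (θ : TH → ℂ) (E x)) = _
        rw [← hkey χ η θ hηc hind hθc, hindθ, hm], hm'⟩
      ⟨m₂, by
        show Cfsg.classInner _ (fun x => (θ : TH → ℂ) (E x)) = _
        rw [← hkey χ' η' θ hη'c hind' hθc, hindθ, hm₂], hm₂'⟩
    exact Subtype.ext (by rw [← hind, ← hind', heq])
  · obtain ⟨θ, hθS, hθc, hindθ⟩ := hcorrH ψ hψ hψc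
    obtain ⟨η, hηS, hηc, m, hm, hm'⟩ := hC'
      ⟨_, IsIrr.comp_surjective E.toMonoidHom E.surjective θ.2⟩ hθS (by
        show Cfsg.classInner (resTo hL'H' fun x => (θ : TH → ℂ) (E x)) φ' ≠ 0
        rw [hover']; exact hθc)
    let χ : Cfsg.IrrCharacter G :=
      ⟨_, isIrr_indFun_of_over hLn hφ hT hLT η.2 (by rw [← hoverT]; exact hηc)⟩
    refine ⟨χ, fun s g => ?_, m, ?_, hm'⟩
    · show Cfsg.indFun T (η : T → ℂ) (a s g) = Cfsg.indFun T (η : T → ℂ) g
      rw [← indFun_comp_aut (a s) T (mem_iff_of_invariant a hTS s)]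
      congr 1
      exact funext fun t => hηS s t
    · rw [← hindθ, hkey χ η θ hηc rfl hθc]
      exact hm

/-- The parity correspondence of an abelian section in a group of odd order. -/
theorem section_correspondence (hodd : Odd (Nat.card G))
    (hcop : (Nat.card G).Coprime (Nat.card S)) (hsolv : Group.IsSolvable G) (C : Subgroup G)
    (hC : ∀ c, c ∈ C ↔ ∀ s, a s c = c) (hKn : K.Normal) (hLn : L.Normal) (hLK : L ≤ K)
    (hKS : ∀ s, ∀ k ∈ K, a s k ∈ K) (hLS : ∀ s, ∀ l ∈ L, a s l ∈ L)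
    (hab : ∀ x ∈ K, ∀ y ∈ K, x * y * x⁻¹ * y⁻¹ ∈ L) (hgen : K ⊔ C = ⊤) (hH : H = L ⊔ C) :
    (∀ χ : Cfsg.IrrCharacter G, (∀ s g, (χ : G → ℂ) (a s g) = (χ : G → ℂ) g) →
      ∃! ψ : Cfsg.IrrCharacter H, InvOn a H (ψ : H → ℂ) ∧ OddMult H (χ : G → ℂ) (ψ : H → ℂ)) ∧
    (∀ χ χ' : Cfsg.IrrCharacter G, (∀ s g, (χ : G → ℂ) (a s g) = (χ : G → ℂ) g) →
      (∀ s g, (χ' : G → ℂ) (a s g) = (χ' : G → ℂ) g) →
        ∀ ψ : Cfsg.IrrCharacter H, InvOn a H (ψ : H → ℂ) → OddMult H (χ : G → ℂ) (ψ : H → ℂ) →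
          OddMult H (χ' : G → ℂ) (ψ : H → ℂ) → χ = χ') ∧
    (∀ ψ : Cfsg.IrrCharacter H, InvOn a H (ψ : H → ℂ) →
      ∃ χ : Cfsg.IrrCharacter G, (∀ s g, (χ : G → ℂ) (a s g) = (χ : G → ℂ) g) ∧
        OddMult H (χ : G → ℂ) (ψ : H → ℂ)) := by
  classical
  obtain ⟨K₁, hK₁n, hLK₁, hK₁K, hK₁S, hgen₁, hK₁C⟩ :=
    exists_shrink a hcop hsolv K L C hC hKn hLn hLK hKS hLS hab hgen
  subst hH
  have := hK₁n
  have := hLn
  have hLH : L ≤ L ⊔ C := le_sup_left
  have hmemH : ∀ h ∈ L ⊔ C, ∃ l ∈ L, ∃ c : G, (∀ s, a s c = c) ∧ h = l * c := by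
    intro h hh
    rw [sup_comm] at hh
    obtain ⟨l, hl, c, hc, rfl⟩ := (CfsgLib.Core.mem_sup_iff_mul' Subgroup.le_normalizer_of_normal).mp hh
    exact ⟨l, hl, c, (hC c).mp hc, rfl⟩
  have hCH : ∀ c : G, (∀ s, a s c = c) → c ∈ L ⊔ C := fun c hc =>
    Subgroup.mem_sup_right ((hC c).mpr hc)
  have hHS : ∀ s, ∀ h ∈ L ⊔ C, a s h ∈ L ⊔ C := by
    intro s h hh
    obtain ⟨l, hl, c, hc, rfl⟩ := hmemH h hh
    rw [map_mul, hc s]
    exact Subgroup.mul_mem _ (hLH (hLS s l hl)) (hCH c hc)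
  have hgen' : ∀ g : G, ∃ k ∈ K₁, ∃ c : G, (∀ s, a s c = c) ∧ g = k * c := by
    intro g
    have hg : g ∈ C ⊔ K₁ := by rw [sup_comm, hgen₁]; exact Subgroup.mem_top g
    obtain ⟨k, hk, c, hc, rfl⟩ := (CfsgLib.Core.mem_sup_iff_mul' Subgroup.le_normalizer_of_normal).mp hg
    exact ⟨k, hk, c, (hC c).mp hc, rfl⟩
  have hstep := inertia_step a K₁ L (L ⊔ C) hodd hcop hsolv hK₁n hLn hLK₁ hLH hK₁S hLS hHS
    (fun x hx y hy => hab x (hK₁K hx) y (hK₁K hy)) hmemH hCH hgen' hK₁C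
  -- invariant constituents of invariant characters of `H`
  let NH : Subgroup ↥(L ⊔ C) := L.subgroupOf (L ⊔ C)
  have := Fintype.ofFinite NH
  have hNHn : NH.Normal := hLn.subgroupOf _
  let eH : NH ≃* L := Subgroup.subgroupOfEquivOfLe hLH
  have hψfix : ∀ ψ : Cfsg.IrrCharacter ↥(L ⊔ C), InvOn a (L ⊔ C) (ψ : ↥(L ⊔ C) → ℂ) →
      ∀ φ : L → ℂ, Cfsg.IsIrrCharacter L φ →
        Cfsg.classInner (resTo hLH (ψ : ↥(L ⊔ C) → ℂ)) φ ≠ 0 → InvOn a L φ := by
    intro ψ hψ φ hφ hc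
    have hφH : Cfsg.IsIrrCharacter NH (fun x => φ (eH x)) :=
      IsIrr.comp_surjective eH.toMonoidHom eH.surjective hφ
    have hcH : Cfsg.classInner (fun n : NH => (ψ : ↥(L ⊔ C) → ℂ) n) (fun x => φ (eH x)) ≠ 0 := by
      rw [show Cfsg.classInner (fun n : NH => (ψ : ↥(L ⊔ C) → ℂ) n) (fun x => φ (eH x)) =
        Cfsg.classInner (resTo hLH (ψ : ↥(L ⊔ C) → ℂ)) φ from
          classInner_comp_equiv eH (resTo hLH (ψ : ↥(L ⊔ C) → ℂ)) φ]
      exact hc
    refine fixed_of_step a hLn hcop hLS fun s => ?_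
    let η : L → ℂ := fun l => φ (restrAut a L hLS s l)
    have hη : Cfsg.IsIrrCharacter L η :=
      IsIrr.comp_surjective (restrAut a L hLS s).toMonoidHom (restrAut a L hLS s).surjective hφ
    have hηc : Cfsg.classInner (resTo hLH (ψ : ↥(L ⊔ C) → ℂ)) η ≠ 0 := by
      have h1 := classInner_comp_equiv (restrAut a L hLS s) (resTo hLH (ψ : ↥(L ⊔ C) → ℂ)) φ
      rw [show (fun l => resTo hLH (ψ : ↥(L ⊔ C) → ℂ) (restrAut a L hLS s l)) =
        resTo hLH (ψ : ↥(L ⊔ C) → ℂ) from funext fun l => hψ s _ _ rfl] at h1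
      exact fun h0 => hc (h1.symm.trans h0)
    have hηH : Cfsg.IsIrrCharacter NH (fun x => η (eH x)) :=
      IsIrr.comp_surjective eH.toMonoidHom eH.surjective hη
    obtain ⟨h, hh⟩ := exists_conj_of_constituent hNHn ψ.2 hφH hηH hcH (by
      rw [show Cfsg.classInner (fun n : NH => (ψ : ↥(L ⊔ C) → ℂ) n) (fun x => η (eH x)) =
        Cfsg.classInner (resTo hLH (ψ : ↥(L ⊔ C) → ℂ)) η from
          classInner_comp_equiv eH (resTo hLH (ψ : ↥(L ⊔ C) → ℂ)) η]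
      exact hηc)
    obtain ⟨l, hl, c, hc', hlc⟩ := hmemH _ h.2
    refine ⟨c, hc', fun n => ?_⟩
    obtain ⟨x, rfl⟩ := eH.surjective n
    refine (congrFun hh x).trans ((congrArg φ (Subtype.ext ?_)).trans (congrFun
      (show conjFn hLn φ (l * c) = conjFn hLn φ c by
        rw [conjFn_mul, le_inertia hLn (IsIrr.isClassFunction hφ) hl]) (eH x)))
    show (h : G) * _ * (h : G)⁻¹ = l * c * _ * (l * c)⁻¹
    rw [← hlc]; rfl
  have hψex : ∀ ψ : Cfsg.IrrCharacter ↥(L ⊔ C), ∃ φ : L → ℂ, Cfsg.IsIrrCharacter L φ ∧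
      Cfsg.classInner (resTo hLH (ψ : ↥(L ⊔ C) → ℂ)) φ ≠ 0 := fun ψ => by
    obtain ⟨φ, hφ⟩ := exists_constituent
      (IsChar.isClassFunction (isCharacter_resTo hLH (IsIrr.isCharacter ψ.2)))
      (fun h => IsIrr.apply_one_ne_zero ψ.2 (congrFun h 1))
    exact ⟨φ, φ.2, hφ⟩
  have hodd0 : ∀ {χ : G → ℂ} {ψ : ↥(L ⊔ C) → ℂ}, OddMult (L ⊔ C) χ ψ →
      Cfsg.classInner (fun h : ↥(L ⊔ C) => χ h) ψ ≠ 0 := fun ⟨m, hm, hm'⟩ => by
    rw [hm]; exact Nat.cast_ne_zero.mpr fun h0 => by simp [h0] at hm'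
  refine ⟨fun χ hχ => ?_, fun χ χ' hχ hχ' ψ hψ h1 h2 => ?_, fun ψ hψ => ?_⟩
  · obtain ⟨φ, hφ, hφS, hc⟩ := exists_fixed_constituent a hLn hcop hsolv hLS χ.2 hχ
    obtain ⟨hA, -, -⟩ := hstep φ hφ hφS
    obtain ⟨ψ, ⟨hψS, -, hψo⟩, hu⟩ := hA χ hχ hc
    refine ⟨ψ, ⟨hψS, hψo⟩, fun ψ' ⟨hψ'S, hψ'o⟩ => hu ψ' ⟨hψ'S, ?_, hψ'o⟩⟩
    -- `ψ'` lies over `φ`
    obtain ⟨φ₂, hφ₂, hφ₂c⟩ := hψex ψ'
    have hφ₂S := hψfix ψ' hψ'S φ₂ hφ₂ hφ₂c
    have hχ₂ := below hLH (IsIrr.isCharacter χ.2) ψ'.2 (IsIrr.isCharacter hφ₂) (hodd0 hψ'o) hφ₂c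
    obtain ⟨g, hg⟩ := exists_conj_of_constituent hLn χ.2 hφ hφ₂ hc hχ₂
    set T := inertia hLn φ with hTdef
    have hTS : ∀ s, ∀ t ∈ T, a s t ∈ T := by
      intro s t ht
      funext l
      have hl' : a s ((restrAut a L hLS s⁻¹ l : L) : G) = (l : G) := by
        show a s (a s⁻¹ (l : G)) = _
        simp [map_inv]
      have h2 : conjFn hLn φ (a s t) l = conjFn hLn φ t (restrAut a L hLS s⁻¹ l) :=
        (congrArg φ (Subtype.ext (by
          show a s t * (l : G) * (a s t)⁻¹ = a s (t * _ * t⁻¹)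
          rw [map_mul (a s), map_mul (a s), map_inv (a s), hl']))).trans
          (hφS s _ ⟨a s (t * ((restrAut a L hLS s⁻¹ l : L) : G) * t⁻¹),
            hLS s _ (hLn.conj_mem _ (restrAut a L hLS s⁻¹ l).2 t)⟩ rfl)
      rw [h2, congrFun (show conjFn hLn φ t = φ from ht)]
      exact (hφS s _ l hl'.symm).symm
    have hgs : ∀ s, conjFn hLn φ (a s g) = conjFn hLn φ g := by
      intro s
      funext l
      have hl' : a s ((restrAut a L hLS s⁻¹ l : L) : G) = (l : G) := by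
        show a s (a s⁻¹ (l : G)) = _
        simp [map_inv]
      refine ((congrArg φ (Subtype.ext (by
          show a s g * (l : G) * (a s g)⁻¹ = a s (g * _ * g⁻¹)
          rw [map_mul (a s), map_mul (a s), map_inv (a s), hl']))).trans
          (hφS s (⟨g * ((restrAut a L hLS s⁻¹ l : L) : G) * g⁻¹,
              hLn.conj_mem _ (restrAut a L hLS s⁻¹ l).2 g⟩ : L)
            ⟨a s (g * ((restrAut a L hLS s⁻¹ l : L) : G) * g⁻¹),
              hLS s _ (hLn.conj_mem _ (restrAut a L hLS s⁻¹ l).2 g)⟩ rfl)).trans ?_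
      rw [← hg]
      refine Eq.trans ?_ (hφ₂S s _ l hl'.symm).symm
      exact (congrFun hg _).symm
    obtain ⟨n, hn, hfix⟩ := exists_fixed_in_coset a hcop hsolv T hTS (g := g⁻¹) (fun s => by
      show conjFn hLn φ (g⁻¹⁻¹ * a s g⁻¹) = φ
      rw [inv_inv, map_inv, conjFn_mul, ← hgs s, ← conjFn_mul, mul_inv_cancel, conjFn_one])
    set c := g⁻¹ * n with hc'
    have hφ₂eq : φ₂ = conjFn hLn φ c⁻¹ := by
      rw [hg, hc', mul_inv_rev, inv_inv, conjFn_mul,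
        show conjFn hLn φ n⁻¹ = φ from T.inv_mem hn]
    have hcmem : c⁻¹ ∈ L ⊔ C := (L ⊔ C).inv_mem (hCH c hfix)
    have he := classInner_comp_equiv (@MulAut.conjNormal G _ L hLn c⁻¹)
      (resTo hLH (ψ' : ↥(L ⊔ C) → ℂ)) φ
    have hψc : (fun l => resTo hLH (ψ' : ↥(L ⊔ C) → ℂ) (@MulAut.conjNormal G _ L hLn c⁻¹ l)) =
        resTo hLH (ψ' : ↥(L ⊔ C) → ℂ) := funext fun l =>
      (congrArg (ψ' : ↥(L ⊔ C) → ℂ) (Subtype.ext (MulAut.conjNormal_apply _ _))).trans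
        (IsIrr.isClassFunction ψ'.2 ⟨(l : G), hLH l.2⟩ ⟨c⁻¹, hcmem⟩)
    rw [hψc] at he
    intro h0
    apply hφ₂c
    rw [hφ₂eq, ← h0, ← he]
    congr 1
  · obtain ⟨φ, hφ, hc⟩ := hψex ψ
    have hφS := hψfix ψ hψ φ hφ hc
    obtain ⟨-, hB, -⟩ := hstep φ hφ hφS
    exact hB χ χ' hχ hχ' (below hLH (IsIrr.isCharacter χ.2) ψ.2 (IsIrr.isCharacter hφ) (hodd0 h1) hc)
      (below hLH (IsIrr.isCharacter χ'.2) ψ.2 (IsIrr.isCharacter hφ) (hodd0 h2) hc) ψ hψ hc h1 h2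
  · obtain ⟨φ, hφ, hc⟩ := hψex ψ
    obtain ⟨-, -, hC'⟩ := hstep φ hφ (hψfix ψ hψ φ hφ hc)
    exact hC' ψ hψ hc

end CfsgLib.Char.OddSection
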