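import Cfsg.Agent.Lib.Char.OddSection.HomTrace
import Cfsg.Agent.Lib.Char.OddSection.Proj
import Cfsg.Agent.Lib.Char.OddSection.Isotypic
import Mathlib.RepresentationTheory.Basic
import Mathlib.Algebra.Ring.Parity

/-!
# The signed restriction: orthonormality

Characters `χ` of `G` over an invariant `θ` of `K`, an involution `J` on the space of `θ` inverting
`K / L`: the functions `h ↦ trace (J σ h)` on `H` have the inner products of the characters `χ`.
-/

set_option autoImplicit false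
set_option linter.all false
set_option maxHeartbeats 800000

namespace CfsgLib.Char.OddSection

open Module

variable {G : Type*} [Group G] [Fintype G]

/-- Conjugation inside a normal subgroup. -/
def conjIn (K : Subgroup G) [hK : K.Normal] (g : G) : MulAut K := MulAut.conjNormal g

theorem conjIn_coe (K : Subgroup G) [K.Normal] (g : G) (k : K) :
    ((conjIn K g k : K) : G) = g * k * g⁻¹ := MulAut.conjNormal_apply g k

theorem eq_one_of_twist_inv {K : Subgroup G} [K.Normal] {L : Subgroup K} (hodd : Odd (Nat.card G))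
    (h : G) (f : linHoms L) (hf : ∀ k, f.1 (conjIn K h k) = (f.1 k)⁻¹) : f = 1 := by
  obtain ⟨m, hm⟩ := Odd.of_dvd_nat hodd (orderOf_dvd_natCard h)
  have h2 : ∀ (i : ℕ) k, f.1 (conjIn K (h ^ (2 * i)) k) = f.1 k := by
    intro i
    induction i with
    | zero => intro k; simp [conjIn]
    | succ i ih =>
      intro k
      rw [show h ^ (2 * (i + 1)) = h ^ (2 * i) * (h * h) by rw [mul_add, pow_add]; simp [pow_two],
        conjIn, map_mul, map_mul, MulAut.mul_apply, MulAut.mul_apply]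
      refine (ih _).trans ?_
      refine (hf _).trans ?_
      exact (congrArg Inv.inv (hf k)).trans (inv_inv _)
  have h1 : h = h ^ (2 * (m + 1)) := by
    rw [show 2 * (m + 1) = (2 * m + 1) + 1 by ring, pow_succ, ← hm, pow_orderOf_eq_one, one_mul]
  refine linHoms.ext' fun k => ?_
  have h3 : (f.1 k)⁻¹ = f.1 k := by rw [← hf k]; conv_lhs => rw [h1]; exact h2 _ k
  have h4 : f.1 k ^ 2 = 1 := by
    rw [pow_two]
    nth_rw 1 [← h3]
    rw [inv_mul_cancel]
  have h5 : f.1 k ^ Nat.card K = 1 := by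
    have h := congrArg (fun x : linHoms L => x.1 k) (linHoms.pow_card f)
    simpa using h
  obtain ⟨i, hi⟩ := Odd.of_dvd_nat hodd K.card_subgroup_dvd_card
  rw [hi, pow_succ, pow_mul, h4, one_pow, one_mul] at h5
  exact h5

variable (K : Subgroup G) [hKn : K.Normal] [Fintype K]
  {V₀ : Type*} [AddCommGroup V₀] [Module ℂ V₀] [FiniteDimensional ℂ V₀]
  (ρ : Representation ℂ K V₀) [ρ.IsIrreducible]

/-- Lying over the character of `ρ`. -/
def Over (χ : G → ℂ) : Prop := ∃ m : ℕ, ∀ k : K, χ k = (m : ℂ) * ρ.character k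

variable {L : Subgroup K} [hLn : L.Normal] (H : Subgroup G) [Fintype H]

theorem comm_of_intertwiners (hinv : ∀ g k, ρ.character (conjIn K g k) = ρ.character k)
    (J : Module.End ℂ V₀)
    (hJH : ∀ h ∈ H, ∀ u : (Module.End ℂ V₀)ˣ,
      (∀ k, (u : Module.End ℂ V₀) * ρ k = ρ (conjIn K h k) * u) →
        (u : Module.End ℂ V₀) * J = J * u)
    {X : Type*} [AddCommGroup X] [Module ℂ X] (τ : Representation ℂ G X)
    (Ψ : Module.End ℂ V₀ →ₐ[ℂ] Module.End ℂ X) (hΨ : ∀ k, Ψ (ρ k) = τ k) :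
    ∀ h ∈ H, Ψ J * τ h = τ h * Ψ J := by
  intro h hh
  obtain ⟨E⟩ := nonempty_equiv_of_character_eq ρ (ρ.comp (conjIn K h).toMonoidHom)
    (funext fun k => (hinv h k).symm)
  set u : (Module.End ℂ V₀)ˣ :=
    { val := E.toLinearEquiv.toLinearMap
      inv := E.toLinearEquiv.symm.toLinearMap
      val_inv := LinearMap.ext fun v => E.toLinearEquiv.apply_symm_apply v
      inv_val := LinearMap.ext fun v => E.toLinearEquiv.symm_apply_apply v }
  have hu : ∀ k, (u : Module.End ℂ V₀) * ρ k = ρ (conjIn K h k) * u :=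
    fun k => LinearMap.ext fun v => E.toIntertwiningMap.isIntertwining _ _ k v
  have key : (LinearMap.mulRight ℂ (τ h⁻¹)) ∘ₗ (LinearMap.mulLeft ℂ (τ h)) ∘ₗ Ψ.toLinearMap =
      Ψ.toLinearMap ∘ₗ (LinearMap.mulRight ℂ ((u⁻¹ : (Module.End ℂ V₀)ˣ) : Module.End ℂ V₀)) ∘ₗ
        (LinearMap.mulLeft ℂ (u : Module.End ℂ V₀)) :=
    LinearMap.ext_on_range (span_range_eq_top ρ) fun k => by
      simp only [LinearMap.comp_apply, LinearMap.mulLeft_apply, LinearMap.mulRight_apply,
        AlgHom.toLinearMap_apply, hu, mul_assoc, Units.mul_inv, mul_one, hΨ]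
      rw [← map_mul, ← map_mul]
      congr 1
      rw [conjIn_coe, mul_assoc]
  have h1 := LinearMap.congr_fun key J
  simp only [LinearMap.comp_apply, LinearMap.mulLeft_apply, LinearMap.mulRight_apply,
    AlgHom.toLinearMap_apply, hJH h hh u hu, mul_assoc, Units.mul_inv, mul_one] at h1
  conv_lhs => rw [← h1]
  simp only [mul_assoc]
  rw [← map_mul, inv_mul_cancel, map_one, mul_one]

theorem classInner_signed (hodd : Odd (Nat.card G)) (hab : ∀ a b : K, a * b * a⁻¹ * b⁻¹ ∈ L)
    (hinv : ∀ g k, ρ.character (conjIn K g k) = ρ.character k)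
    (hHL : ∀ h ∈ H, ∀ l ∈ L, conjIn K h l ∈ L) (hLH : ∀ l ∈ L, ((l : K) : G) ∈ H)
    (hgen : K ⊔ H = ⊤) (J : Module.End ℂ V₀) (hJ : J * J = 1)
    (hJL : ∀ l ∈ L, J * ρ l = ρ l * J)
    (hJK : ∀ k, J * ρ k * J * ρ k ∈ Submodule.span ℂ (Set.range fun l : L => ρ l))
    (hJH : ∀ h ∈ H, ∀ u : (Module.End ℂ V₀)ˣ,
      (∀ k, (u : Module.End ℂ V₀) * ρ k = ρ (conjIn K h k) * u) →
        (u : Module.End ℂ V₀) * J = J * u)
    {V V' : Type*} [AddCommGroup V] [Module ℂ V] [FiniteDimensional ℂ V] [AddCommGroup V']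
    [Module ℂ V'] [FiniteDimensional ℂ V'] (σ : Representation ℂ G V) (σ' : Representation ℂ G V')
    (Φ : Module.End ℂ V₀ →ₐ[ℂ] Module.End ℂ V) (Φ' : Module.End ℂ V₀ →ₐ[ℂ] Module.End ℂ V')
    (hΦ : ∀ k, Φ (ρ k) = σ k) (hΦ' : ∀ k, Φ' (ρ k) = σ' k) :
    Cfsg.classInner (fun h : H => LinearMap.trace ℂ V' (Φ' J * σ' h))
        (fun h : H => LinearMap.trace ℂ V (Φ J * σ h)) =
      Cfsg.classInner σ'.character σ.character := by
  classical
  have := Fintype.ofFinite (linHoms L)
  have := Fintype.ofFinite L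
  -- compatibility with the intertwiners
  have hJσ := comm_of_intertwiners K ρ H hinv J hJH σ Φ hΦ
  have hJσ' := comm_of_intertwiners K ρ H hinv J hJH σ' Φ' hΦ'
  -- the representation on linear maps
  let A : Representation ℂ G (V →ₗ[ℂ] V') := σ.linHom σ'
  let AK : Representation ℂ K (V →ₗ[ℂ] V') := A.comp K.subtype
  let ι : Module.End ℂ (V →ₗ[ℂ] V') := twoSided (Φ' J) (Φ J)
  let P : linHoms L → Module.End ℂ (V →ₗ[ℂ] V') := fun f => proj AK f
  set PL : Module.End ℂ (V →ₗ[ℂ] V') := projSub AK L with hPL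
  have hA : ∀ g (T : V →ₗ[ℂ] V'), A g T = σ' g ∘ₗ T ∘ₗ σ g⁻¹ := fun g T => rfl
  -- the left-hand side as a sum of traces
  have hsum : Cfsg.classInner (fun h : H => LinearMap.trace ℂ V' (Φ' J * σ' h))
      (fun h : H => LinearMap.trace ℂ V (Φ J * σ h)) =
      (Nat.card H : ℂ)⁻¹ * ∑ h : H, LinearMap.trace ℂ (V →ₗ[ℂ] V') (ι * A h) := by
    unfold Cfsg.classInner
    congr 1
    refine Finset.sum_congr rfl fun h _ => ?_
    obtain ⟨p, q, hp, hq, -, hv⟩ := exists_signed_split (σ.comp H.subtype) (Φ J)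
      (by rw [← map_mul, hJ, map_one]) (fun x => hJσ x x.2)
    have hconj : (starRingEnd ℂ) (LinearMap.trace ℂ V (Φ J * σ h)) =
        LinearMap.trace ℂ V (Φ J * σ (h⁻¹ : H)) := by
      rw [show LinearMap.trace ℂ V (Φ J * σ h) = p h - q h from hv h,
        show LinearMap.trace ℂ V (Φ J * σ (h⁻¹ : H)) = p h⁻¹ - q h⁻¹ from hv h⁻¹, map_sub,
        IsChar.map_inv hp, IsChar.map_inv hq]
    have he : ι * A h = twoSided (Φ' J * σ' h) (σ (h⁻¹ : H) * Φ J) :=
      LinearMap.ext fun T => rfl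
    rw [he, trace_twoSided, LinearMap.trace_mul_comm ℂ (σ (h⁻¹ : H)), hconj]
  have hPLabs : ∀ l ∈ L, AK l * PL = PL ∧ PL * AK l = PL := by
    intro l hl
    constructor
    · rw [hPL, projSub, mul_smul_comm, Finset.mul_sum]
      congr 1
      exact Fintype.sum_equiv (Equiv.mulLeft ⟨l, hl⟩) _ _ fun x => by rw [← map_mul]; rfl
    · rw [hPL, projSub, smul_mul_assoc, Finset.sum_mul]
      congr 1
      exact Fintype.sum_equiv (Equiv.mulRight ⟨l, hl⟩) _ _ fun x => by rw [← map_mul]; rfl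
  have hred : ∑ h : H, LinearMap.trace ℂ (V →ₗ[ℂ] V') (ι * A h) =
      ∑ h : H, LinearMap.trace ℂ (V →ₗ[ℂ] V') (ι * A h * PL) := by
    have hl : ∀ l : L, ∑ h : H, LinearMap.trace ℂ (V →ₗ[ℂ] V') (ι * A h * AK l) =
        ∑ h : H, LinearMap.trace ℂ (V →ₗ[ℂ] V') (ι * A h) := fun l =>
      Fintype.sum_equiv (Equiv.mulRight (⟨((l : K) : G), hLH l l.2⟩ : H)) _ _ fun h => by
        show _ = LinearMap.trace ℂ (V →ₗ[ℂ] V') (ι * A ((h : G) * ((l : K) : G)))
        rw [map_mul A, ← mul_assoc]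
        rfl
    have hc : (Fintype.card L : ℂ) ≠ 0 := Nat.cast_ne_zero.mpr Fintype.card_ne_zero
    simp only [hPL, projSub, mul_smul_comm, Finset.mul_sum, map_smul, map_sum, smul_eq_mul]
    conv_rhs => rw [Finset.sum_comm]
    rw [Finset.sum_congr rfl fun l _ =>
        (Finset.mul_sum _ _ _).symm.trans (congrArg _ (hl l)), Finset.sum_const,
      Finset.card_univ, nsmul_eq_mul, mul_inv_cancel_left₀ hc]
  -- `ι` inverts the section on the fixed points of `L`
  have hPLinv : ∀ (T : V →ₗ[ℂ] V') (l : L), σ' ((l : K) : G) ∘ₗ PL T = PL T ∘ₗ σ ((l : K) : G) := by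
    intro T l
    have h := LinearMap.congr_fun (hPLabs l l.2).1 T
    change σ' ((l : K) : G) ∘ₗ PL T ∘ₗ σ ((l : K) : G)⁻¹ = PL T at h
    refine LinearMap.ext fun v => ?_
    have h2 := LinearMap.congr_fun h (σ ((l : K) : G) v)
    simpa using h2
  have hspan : ∀ (T : V →ₗ[ℂ] V') (x : Module.End ℂ V₀),
      x ∈ Submodule.span ℂ (Set.range fun l : L => ρ l) → Φ' x ∘ₗ PL T = PL T ∘ₗ Φ x := by
    intro T x hx
    induction hx using Submodule.span_induction with
    | mem y hy =>
      obtain ⟨l, rfl⟩ := hy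
      simp only [hΦ, hΦ']
      exact hPLinv T l
    | zero => simp
    | add a b _ _ ha hb => simp only [map_add, LinearMap.add_comp, LinearMap.comp_add, ha, hb]
    | smul c a _ ha => simp only [map_smul, LinearMap.smul_comp, LinearMap.comp_smul, ha]
  have hιPL : ι * PL = PL * ι := by
    simp only [hPL, projSub, mul_smul_comm, smul_mul_assoc, Finset.mul_sum, Finset.sum_mul]
    congr 1
    refine Finset.sum_congr rfl fun l _ => LinearMap.ext fun T => ?_
    show (Φ' J * σ' ((l : K) : G)) ∘ₗ T ∘ₗ (σ ((l : K) : G)⁻¹ * Φ J) =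
      (σ' ((l : K) : G) * Φ' J) ∘ₗ T ∘ₗ (Φ J * σ ((l : K) : G)⁻¹)
    rw [hJσ' _ (hLH l l.2), hJσ _ (H.inv_mem (hLH l l.2))]
  have hιk : ∀ k : K, ι * AK k * PL = AK k⁻¹ * PL * ι := by
    intro k
    rw [mul_assoc (AK k⁻¹), ← hιPL, ← mul_assoc]
    refine LinearMap.ext fun T => ?_
    simp only [Module.End.mul_apply]
    set T' := PL T with hT'
    set x := J * ρ k * J * ρ k with hx
    have hxs := hspan T x (hJK k)
    rw [← hT'] at hxs
    have hJx : J * x = x * J := by
      have hxs' := hJK k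
      rw [← hx] at hxs'
      clear_value x
      clear hx hxs
      induction hxs' using Submodule.span_induction with
      | mem y hy => obtain ⟨l, rfl⟩ := hy; exact hJL l l.2
      | zero => simp
      | add a b _ _ ha hb => rw [mul_add, add_mul, ha, hb]
      | smul c a _ ha => rw [mul_smul_comm, smul_mul_assoc, ha]
    refine LinearMap.ext fun v => ?_
    show Φ' J (σ' k (T' (σ (k : G)⁻¹ (Φ J v)))) =
      σ' ((k⁻¹ : K) : G) (Φ' J (T' (Φ J (σ ((k⁻¹ : K) : G)⁻¹ v))))
    apply (σ'.apply_bijective (k : G)).1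
    have hJJ' : ∀ w, Φ' J (Φ' J w) = w := fun w => by
      rw [← Module.End.mul_apply, ← map_mul Φ', hJ, map_one Φ', Module.End.one_apply]
    apply Function.LeftInverse.injective hJJ'
    rw [Subgroup.coe_inv, Representation.self_inv_apply, inv_inv, hJJ']
    have e1 : ∀ w, Φ' J (σ' k (Φ' J (σ' k (T' w)))) = T' (Φ x w) := fun w => by
      have h := LinearMap.congr_fun hxs w
      simp only [LinearMap.comp_apply, hx, map_mul, hΦ', Module.End.mul_apply] at h
      simp only [hx, map_mul, Module.End.mul_apply] at h ⊢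
      exact h
    rw [e1]
    congr 1
    have e2 : x * ρ k⁻¹ * J = J * ρ k := by
      rw [hx, mul_assoc _ (ρ k) (ρ k⁻¹), ← map_mul, mul_inv_cancel, map_one, mul_one,
        mul_assoc _ J J, hJ, mul_one]
    have h := LinearMap.congr_fun (congrArg Φ e2) v
    simp only [map_mul, hΦ, Module.End.mul_apply, Subgroup.coe_inv] at h
    exact h
  have hsumP : ∑ f : linHoms L, P f = PL := sum_proj AK hab
  have hPPL : ∀ f : linHoms L, P f * PL = P f ∧ PL * P f = P f := by
    intro f
    constructor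
    · rw [← hsumP, Finset.mul_sum, Finset.sum_eq_single f]
      · simp [P, proj_mul_proj]
      · intro g _ hg; simp [P, proj_mul_proj, Ne.symm hg]
      · simp
    · rw [← hsumP, Finset.sum_mul, Finset.sum_eq_single f]
      · simp [P, proj_mul_proj]
      · intro g _ hg; simp [P, proj_mul_proj, hg]
      · simp
  have hιP : ∀ f : linHoms L, ι * P f = P f⁻¹ * ι := by
    intro f
    rw [← (hPPL f).1, ← (hPPL f⁻¹).1]
    simp only [P, proj, smul_mul_assoc, mul_smul_comm, Finset.sum_mul, Finset.mul_sum]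
    congr 1
    refine Fintype.sum_equiv (Equiv.inv K) _ _ fun k => ?_
    rw [← mul_assoc, hιk]
    congr 1
    rw [Equiv.inv_apply, linHoms.map_inv]
    simp
  have hAP : ∀ (h : H) (f : linHoms L) (f' : linHoms L),
      (∀ k, f'.1 (conjIn K h k) = f.1 k) → A h * P f = P f' * A h := by
    intro h f f' hff'
    simp only [P, proj, mul_smul_comm, smul_mul_assoc, Finset.mul_sum, Finset.sum_mul]
    congr 1
    refine Fintype.sum_equiv (conjIn K h).toEquiv _ _ fun k => ?_
    simp only [MulEquiv.toEquiv_eq_coe, MulEquiv.coe_toEquiv, hff']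
    congr 1
    show A h * A k = A ((conjIn K h k : K) : G) * A h
    rw [← map_mul, ← map_mul]
    congr 1
    rw [conjIn_coe]
    simp [mul_assoc]
  have hone : ι * P 1 = P 1 := by
    refine LinearMap.ext fun T => ?_
    simp only [Module.End.mul_apply]
    set T' := P 1 T with hT'
    have hk : ∀ k : K, σ' k ∘ₗ T' = T' ∘ₗ σ k := fun k => by
      have h := apply_proj_apply AK (1 : linHoms L) k T
      rw [show ((1 : linHoms L).1 k : ℂ) = 1 from rfl, one_smul] at h
      change σ' k ∘ₗ T' ∘ₗ σ (k : G)⁻¹ = T' at h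
      refine LinearMap.ext fun v => ?_
      simpa using LinearMap.congr_fun h (σ (k : G) v)
    have he : (LinearMap.lcomp ℂ V' T') ∘ₗ Φ'.toLinearMap =
        (LinearMap.llcomp ℂ V V V' T') ∘ₗ Φ.toLinearMap :=
      LinearMap.ext_on_range (span_range_eq_top ρ) fun k => by
        simp only [LinearMap.comp_apply, AlgHom.toLinearMap_apply, hΦ, hΦ']
        exact hk k
    have hJT : Φ' J ∘ₗ T' = T' ∘ₗ Φ J := LinearMap.congr_fun he J
    show Φ' J ∘ₗ T' ∘ₗ Φ J = T'
    rw [← LinearMap.comp_assoc, hJT, LinearMap.comp_assoc,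
      show Φ J ∘ₗ Φ J = LinearMap.id by rw [← Module.End.mul_eq_comp, ← map_mul, hJ, map_one]; rfl,
      LinearMap.comp_id]
  have hιA : ∀ h : H, ι * A h = A h * ι := fun h => LinearMap.ext fun T => by
    show (Φ' J * σ' h) ∘ₗ T ∘ₗ (σ (h : G)⁻¹ * Φ J) = (σ' h * Φ' J) ∘ₗ T ∘ₗ (Φ J * σ (h : G)⁻¹)
    rw [hJσ' _ h.2, hJσ _ (H.inv_mem h.2)]
  -- only the trivial character of the section contributes
  have honly : ∀ h : H, LinearMap.trace ℂ (V →ₗ[ℂ] V') (ι * A h * PL) =
      LinearMap.trace ℂ (V →ₗ[ℂ] V') (A h * P 1) := by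
    intro h
    rw [← hsumP, Finset.mul_sum, map_sum, Finset.sum_eq_single (1 : linHoms L)]
    · rw [hιA, mul_assoc, hone]
    · intro f _ hf
      let f' : linHoms L :=
        ⟨fun k => f.1 ((conjIn K (h : G)).symm k),
          fun a b => by simp only [map_mul, linHoms.map_mul],
          fun l hl => linHoms.map_of_mem f (by
            have h1 := hHL _ (H.inv_mem h.2) l hl
            rwa [conjIn, map_inv] at h1)⟩
      have hf' : ∀ k, f'.1 (conjIn K h k) = f.1 k := fun k =>
        congrArg f.1 ((conjIn K (h : G)).symm_apply_apply k)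
      have hne : f ≠ f'⁻¹ := fun he => hf (eq_one_of_twist_inv hodd (h : G) f fun k => by
        conv_lhs => rw [he]
        simp [hf'])
      have e1 : ι * A h * P f = P f'⁻¹ * (ι * A h) := by
        rw [mul_assoc, hAP h f f' hf', ← mul_assoc, hιP, mul_assoc]
      have e2 : ι * A h * P f = ι * A h * P f * P f := by
        rw [mul_assoc _ (P f) (P f)]; simp [P, proj_mul_proj]
      rw [e2, LinearMap.trace_mul_comm, e1, ← mul_assoc]
      simp [P, proj_mul_proj, hne]
    · simp
  have hcH : (Nat.card H : ℂ) ≠ 0 := Nat.cast_ne_zero.mpr Nat.card_pos.ne'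
  set Q : Module.End ℂ (V →ₗ[ℂ] V') := (Nat.card H : ℂ)⁻¹ • ∑ h : H, A h with hQ
  set PG : Module.End ℂ (V →ₗ[ℂ] V') := (Nat.card G : ℂ)⁻¹ • ∑ g : G, A g with hPG
  have habs : ∀ g : G, A g * (Q * P 1) = Q * P 1 := by
    let S : Subgroup G :=
      { carrier := {g | A g * (Q * P 1) = Q * P 1}
        one_mem' := by show A 1 * _ = _; rw [map_one, one_mul]
        mul_mem' := fun {a b} ha hb => by
          show A (a * b) * _ = _
          rw [map_mul, mul_assoc, hb, ha]
        inv_mem' := fun {a} ha => by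
          show A a⁻¹ * _ = _
          conv_lhs => rw [← ha, ← mul_assoc, ← map_mul, inv_mul_cancel, map_one, one_mul] }
    have hS : K ⊔ H ≤ S := by
      refine sup_le (fun k hk => ?_) (fun h hh => ?_)
      · show A k * (Q * P 1) = Q * P 1
        have hQP : Q * P 1 = P 1 * Q := by
          simp only [hQ, smul_mul_assoc, mul_smul_comm, Finset.sum_mul, Finset.mul_sum]
          congr 1
          exact Finset.sum_congr rfl fun h _ => hAP h 1 1 fun k => rfl
        rw [hQP, ← mul_assoc, show A k = AK ⟨k, hk⟩ from rfl, apply_mul_proj]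
        simp [P]
      · show A h * (Q * P 1) = Q * P 1
        rw [← mul_assoc]
        congr 1
        rw [hQ, mul_smul_comm, Finset.mul_sum]
        congr 1
        exact Fintype.sum_equiv (Equiv.mulLeft ⟨h, hh⟩) _ _ fun x => by rw [← map_mul]; rfl
    intro g
    exact hS (hgen ▸ Subgroup.mem_top g)
  have hPGabs : ∀ g : G, PG * A g = PG := fun g => by
    rw [hPG, smul_mul_assoc, Finset.sum_mul]
    congr 1
    exact Fintype.sum_equiv (Equiv.mulRight g) _ _ fun x => by rw [← map_mul]; rfl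
  have hQP : Q * P 1 = PG := by
    have h1 : PG * (Q * P 1) = Q * P 1 := by
      rw [hPG, smul_mul_assoc, Finset.sum_mul, Finset.sum_congr rfl fun g _ => habs g,
        Finset.sum_const, Finset.card_univ, ← Nat.cast_smul_eq_nsmul ℂ, smul_smul,
        Nat.card_eq_fintype_card, inv_mul_cancel₀ (Nat.cast_ne_zero.mpr Fintype.card_ne_zero),
        one_smul]
    have h2 : PG * P 1 = PG := by
      simp only [P, proj, mul_smul_comm, Finset.mul_sum]
      rw [Finset.sum_congr rfl fun k _ => show _ = PG from by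
        rw [show ((((1 : linHoms L).1 k)⁻¹ : ℂˣ) : ℂ) = 1 by simp, one_smul]; exact hPGabs _,
        Finset.sum_const, Finset.card_univ, ← Nat.cast_smul_eq_nsmul ℂ, smul_smul,
        inv_mul_cancel₀ (Nat.cast_ne_zero.mpr Fintype.card_ne_zero), one_smul]
    have h3 : PG * Q = PG := by
      rw [hQ, mul_smul_comm, Finset.mul_sum, Finset.sum_congr rfl fun (h : H) _ => hPGabs (h : G),
        Finset.sum_const, Finset.card_univ, ← Nat.cast_smul_eq_nsmul ℂ, smul_smul,
        Nat.card_eq_fintype_card, inv_mul_cancel₀ (Nat.cast_ne_zero.mpr Fintype.card_ne_zero),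
        one_smul]
    rw [← h1, ← mul_assoc, h3, h2]
  rw [hsum, hred, Finset.sum_congr rfl fun h _ => honly h, ← map_sum, ← smul_eq_mul, ← map_smul,
    ← Finset.sum_mul, ← smul_mul_assoc, ← hQ, hQP, hPG, map_smul, map_sum, smul_eq_mul,
    Cfsg.classInner]
  congr 1
  refine Finset.sum_congr rfl fun g _ => ?_
  rw [← character_inv σ g, mul_comm]
  exact (Representation.char_linHom σ σ' g)

end CfsgLib.Char.OddSection
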